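import Cfsg.Agent.H61.M24.Induced
import Cfsg.Agent.H93.Geo23
import Cfsg.Agent.H93.Count23G
import Cfsg.Agent.H93.Unique
import Cfsg.Agent.H93.Triples

/-!
Groups of type M(24): residues are of type M(23); kernels and stabilisers inside residues.
-/

set_option autoImplicit false

namespace Cfsg.Agent.H61.M24

open Cfsg.Agent.H93

variable {G : Type*} [Group G] {D : Set G}

theorem type23_transfer {G' : Type*} [Group G'] (e : G ≃* G') {E : Set G}
    (h : Cfsg.IsOfTypeM23 G E) : Cfsg.IsOfTypeM23 G' (e '' E) := by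
  obtain ⟨hcen, d, hd, c, hc, hdc, h22, c3, hc3, Q, hQ, hμ, ⟨q⟩⟩ := h
  have hback : ∀ a b, Commute (e a) (e b) ↔ Commute a b := fun a b =>
    ⟨fun q => by simpa using q.map e.symm.toMonoidHom, fun q => q.map e.toMonoidHom⟩
  have hnb : ∀ a, {y : G' | y ∈ e '' E ∧ y ≠ e a ∧ Commute (e a) y} =
      e '' {y : G | y ∈ E ∧ y ≠ a ∧ Commute a y} := by
    intro a
    ext y
    constructor
    · rintro ⟨⟨x, hx, rfl⟩, hne, hc⟩
      exact ⟨x, ⟨hx, fun q => hne (by rw [q]), (hback a x).mp hc⟩, rfl⟩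
    · rintro ⟨x, ⟨hx, hne, hc⟩, rfl⟩
      exact ⟨⟨x, hx, rfl⟩, fun q => hne (e.injective q), (hback a x).mpr hc⟩
  refine ⟨?_, e d, ⟨d, hd, rfl⟩, e c, ⟨c, hc, rfl⟩, fun q => hdc ((hback d c).mp q), ?_, ?_⟩
  · rw [eq_bot_iff]
    intro z hz
    have : e.symm z ∈ Subgroup.center G := Subgroup.mem_center_iff.mpr fun g => by
      apply e.injective
      simpa using Subgroup.mem_center_iff.mp hz (e g)
    rw [hcen, Subgroup.mem_bot] at this
    exact Subgroup.mem_bot.mpr (by simpa using congrArg e this)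
  · -- the residue
    have hmap : (nbSub E d).map e.toMonoidHom = nbSub (e '' E) (e d) := by
      rw [MonoidHom.map_closure]
      exact congrArg Subgroup.closure (hnb d).symm
    let e0 : ↥(nbSub E d) ≃* ↥(nbSub (e '' E) (e d)) :=
      ((nbSub E d).equivMapOfInjective e.toMonoidHom e.injective).trans
        (MulEquiv.subgroupCongr hmap)
    have he0 : ∀ x, ((e0 x : ↥(nbSub (e '' E) (e d))) : G') = e (x : G) := fun x => rfl
    have hcen' : (Subgroup.center ↥(nbSub E d)).map e0.toMonoidHom =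
        Subgroup.center ↥(nbSub (e '' E) (e d)) := by
      ext z
      rw [Subgroup.mem_map_equiv]
      constructor
      · intro hz
        rw [Subgroup.mem_center_iff] at hz ⊢
        intro w
        apply e0.symm.injective
        rw [map_mul, map_mul]
        exact hz _
      · intro hz
        rw [Subgroup.mem_center_iff] at hz ⊢
        intro w
        apply e0.injective
        simp only [map_mul, MulEquiv.apply_symm_apply]
        exact hz _
    let E1 : Residue E d ≃* Residue (e '' E) (e d) := QuotientGroup.congr _ _ e0 hcen'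
    have himg : E1 '' resSet E d = resSet (e '' E) (e d) := by
      ext z
      constructor
      · rintro ⟨_, hw, rfl⟩
        obtain ⟨y, hy, rfl⟩ := mem_resSet.mp hw
        exact mem_resSet.mpr ⟨e y, (hnb d).symm.subset ⟨y, hy, rfl⟩,
          congrArg QuotientGroup.mk (Subtype.ext (he0 _))⟩
      · intro hz
        obtain ⟨y', hy', rfl⟩ := mem_resSet.mp hz
        obtain ⟨y, hy, rfl⟩ := (hnb d).subset hy'
        exact ⟨_, mem_resSet.mpr ⟨y, hy, rfl⟩, congrArg QuotientGroup.mk (Subtype.ext (he0 _))⟩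
    have h22' := type22_transfer E1 (E := resSet E d) h22
    rw [himg] at h22'
    exact h22'
  · obtain ⟨r⟩ := closure_quot_equiv e
      ({y : G | y ∈ E ∧ y ≠ d ∧ Commute d y} ∩ {y : G | y ∈ E ∧ y ≠ c ∧ Commute c y})
      (show {y : G' | y ∈ e '' E ∧ y ≠ e d ∧ Commute (e d) y} ∩
        {y : G' | y ∈ e '' E ∧ y ≠ e c ∧ Commute (e c) y} = _ by
        rw [hnb d, hnb c, ← Set.image_inter e.injective])
    exact ⟨c3, hc3, Q, hQ, hμ, ⟨r.trans q⟩⟩

/-- the facts used about a group of type M(24) -/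
structure Data24 (D : Set G) : Prop where
  core : Core D
  ind : Indep D 7
  conn : Conn D
  sep : ∀ a ∈ D, Sep (nb D a)
  cen : Subgroup.center G = ⊥
  gen : Subgroup.closure D = ⊤
  nonempty : D.Nonempty
  res : ∀ a ∈ D, Geo23 (resSet D a) ∧ M23Data (resSet D a)

theorem data24 [Finite G] (hD : Cfsg.IsThreeTranspositionGroup D)
    (hprim : Cfsg.IsPrimitiveUnderConj D) (h : Cfsg.IsOfTypeM24 G D) : Data24 D := by
  have htt := TT.of_group hD
  have hgen := (class_of_group hD hprim).2.2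
  have hne : ∀ a ∈ D, a ≠ 1 := fun a ha e => by simpa [e] using hD.1.1 a ha
  obtain ⟨hcore, -⟩ := rigid24 htt hgen hne hprim h
  have hind := indep_of_M24 htt hgen h
  rw [diff_one_eq hne] at hind
  obtain ⟨hcen, d, hd, c, -, -, h23, -⟩ := h
  obtain ⟨hrig, -⟩ := rigid23 (tt_resSet htt hd) (closure_resSet d) (resSet_ne_one hcore hd) h23
  obtain ⟨hrc, -, hrs, -⟩ :=
    good23 (tt_resSet htt hd) (closure_resSet d) (resSet_ne_one hcore hd) h23
  have hl : Local D d := local_of_residue hcore hd hrc hrs hrig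
  refine ⟨hcore, hind, conn_of_prim hcore hprim, fun a ha => (local_all hcore hd hl a ha).sep,
    hcen, hgen, ⟨d, hd⟩, fun a ha => ?_⟩
  obtain ⟨g, rfl⟩ := isConj_iff.mp (hcore.cls d hd a ha)
  obtain ⟨e, he⟩ := residue_conj htt g d
  have h23a := he ▸ type23_transfer e h23
  obtain ⟨hra, -⟩ :=
    good23 (tt_resSet htt ha) (closure_resSet _) (resSet_ne_one hcore ha) h23a
  have hclass : Cfsg.IsThreeTranspositionClass (resSet D (g * d * g⁻¹)) := by
    refine ⟨⟨fun x hx => orderOf_eq_prime (by rw [pow_two]; exact hra.tt.sq x hx) (hra.ne_one x hx),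
      hra.tt.pair⟩, ?_, closure_resSet _⟩
    obtain ⟨b, hb⟩ := hcore.edge _ ha
    refine ⟨rimg D _ b, rimg_mem hb, Set.ext fun x => ⟨fun hx => hra.cls _ (rimg_mem hb) x hx,
      fun hx => ?_⟩⟩
    obtain ⟨k, rfl⟩ := isConj_iff.mp (show IsConj (rimg D _ b) x from hx)
    exact hra.tt.conj_mem k _ (rimg_mem hb)
  exact ⟨geo23 hclass h23a, m23data hclass h23a⟩

/-- six members on a line through a member of a group of type M(23) -/
theorem M23Data.six_nodup (h : M23Data D) {a : G} (ha : a ∈ D) :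
    ∃ l : List G, l.length = 6 ∧ l.Nodup ∧ (∀ x ∈ l, x ∈ nb D a) ∧
      (∀ x ∈ l, ∀ y ∈ l, Commute x y) ∧ l.prod = a := by
  classical
  obtain ⟨b, hb'⟩ := h.core.edge a ha
  obtain ⟨F, iF, iFF, hM, -⟩ := h.res a ha
  obtain ⟨l, hl, hnd, hmem, hcom, hprod⟩ := hM.five_nodup (rimg_mem hb')
  choose f hf ef using fun x : Residue D a => fun hx : x ∈ l =>
    h.core.rimg_nb_surj ha hb' (hmem x hx)
  let L : List G := b :: l.attach.map (fun x => f x.1 x.2)
  have hL : L = b :: l.attach.map (fun x => f x.1 x.2) := rfl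
  have hLnb : ∀ y ∈ L, y ∈ nb D a := by
    intro y hy
    rcases List.mem_cons.mp hy with rfl | hy
    · exact hb'
    · obtain ⟨⟨x, hx⟩, -, rfl⟩ := List.mem_map.mp hy
      exact (hf x hx).1
  obtain ⟨hm, e⟩ := rimg_prod hLnb
  have e1 : (L.map (rimg D a)).prod = 1 := by
    rw [hL, List.map_cons, List.map_map, List.prod_cons,
      show (rimg D a ∘ fun x : {x // x ∈ l} => f x.1 x.2) = Subtype.val from
        funext fun x => ef x.1 x.2,
      List.attach_map_subtype_val, hprod, hM.core.tt.sq _ (rimg_mem hb')]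
  have hndL : L.Nodup := by
    refine List.nodup_cons.mpr ⟨fun q => ?_, ?_⟩
    · obtain ⟨⟨x, hx⟩, -, exb⟩ := List.mem_map.mp q
      exact (hf x hx).2.2.1 exb
    · refine List.Nodup.map (fun x x' e => Subtype.ext ?_) (List.nodup_attach.mpr hnd)
      rw [← ef x.1 x.2, ← ef x'.1 x'.2]
      exact congrArg (rimg D a) e
  have key : ∀ {y}, y ∈ L → y = b ∨ ∃ x, ∃ hx : x ∈ l, y = f x hx := fun {y} hy => by
    rw [hL] at hy
    rcases List.mem_cons.mp hy with q | hy
    · exact Or.inl q
    · obtain ⟨⟨x, hx⟩, -, q⟩ := List.mem_map.mp hy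
      exact Or.inr ⟨x, hx, q.symm⟩
  have hcomL : ∀ y ∈ L, ∀ z ∈ L, Commute y z := by
    intro y hy z hz
    rcases key hy with rfl | ⟨x, hx, rfl⟩
    · rcases key hz with rfl | ⟨x', hx', rfl⟩
      exacts [Commute.refl _, (hf x' hx').2.2.2]
    · rcases key hz with rfl | ⟨x', hx', rfl⟩
      · exact (hf x hx).2.2.2.symm
      · refine (h.core.rimg_comm (hf x hx).1 (hf x' hx').1).mp ?_
        rw [ef, ef]
        exact hcom x hx x' hx'
  refine ⟨L, by simp [hL, hl], hndL, hLnb, hcomL, ?_⟩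
  rcases h.center_two ha hm (e.trans e1) with q | q
  · exact absurd q (h.ind L hndL (by simp [hL]) (by simp [hL, hl]) (fun y hy => (hLnb y hy).1) hcomL)
  · exact q

namespace Data24

variable (h : Data24 D)

include h

theorem eq_one {k : G} (hk : ∀ t ∈ D, Commute k t) : k = 1 := by
  have hle : Subgroup.closure D ≤ Subgroup.centralizer ({k} : Set G) := by
    rw [Subgroup.closure_le]
    exact fun x hx => Subgroup.mem_centralizer_singleton_iff.mpr (hk x hx).symm.eq
  rw [h.gen] at hle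
  have : k ∈ Subgroup.center G := Subgroup.mem_center_iff.mpr fun g =>
    Subgroup.mem_centralizer_singleton_iff.mp (hle (Subgroup.mem_top g))
  rwa [h.cen, Subgroup.mem_bot] at this

/-- only `1` and the member centralise the closed neighbourhood of a member -/
theorem kernel [Finite G] {a g : G} (ha : a ∈ D) (hga : Commute g a)
    (hg : ∀ v ∈ nb D a, Commute g v) : g = 1 ∨ g = a := by
  have htt := h.core.tt
  obtain ⟨b, hb'⟩ := h.core.edge a ha
  have hM := (h.res b hb'.1).2
  have hmem : ∀ x ∈ D, MulAut.conj g x ∈ D := fun x hx => htt.conj_mem g x hx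
  have fixv : ∀ {k v : G}, Commute k v → MulAut.conj k v = v := fun q =>
    mul_inv_eq_iff_eq_mul.mpr q.eq
  obtain ⟨ψ, hψ⟩ := exists_induced hmem (fixv (hg b hb'))
  have hab : a ∈ nb D b := nb_symm ha hb'
  have near : ∀ {y}, y ∈ nb D b → Commute a y → MulAut.conj g y = y := fun {y} hy hc => by
    by_cases e : y = a
    · exact fixv (e ▸ hga)
    · exact fixv (hg y ⟨hy.1, e, hc⟩)
  have hfix := M23Data.kernel_aut hM ψ (fun x hx => by
      obtain ⟨y, hy, rfl⟩ := rimg_surj hx
      exact (hψ hy).2 ▸ rimg_mem (hψ hy).1) (rimg_mem hab)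
    (by rw [(hψ hab).2, fixv hga])
    (fun v hv => by
      obtain ⟨y, hy, rfl⟩ := h.core.rimg_nb_surj hb'.1 hab hv
      rw [(hψ hy.1).2, near hy.1 hy.2.2.2])
  have fin : ∀ k : G, Commute k a → (∀ v ∈ nb D a, Commute k v) → (∀ v ∈ nb D b, Commute k v) →
      k = 1 := fun k k1 k2 k3 => h.eq_one fun t ht => by
    have := fix_of_two h.core h.conn h.sep (φ := MulAut.conj k) ha hb'
      (fixv k1) (fun v hv => fixv (k2 v hv)) (fun v hv => fixv (k3 v hv)) t ht
    exact mul_inv_eq_iff_eq_mul.mp this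
  rcases hfix with q | q
  · left
    refine fin g hga hg fun v hv => ?_
    have := q _ (rimg_mem hv)
    rw [(hψ hv).2, h.core.rimg_inj hb'.1 (hψ hv).1 hv] at this
    exact mul_inv_eq_iff_eq_mul.mp this
  · right
    have h1 : a * g = 1 := by
      refine fin (a * g) ((Commute.refl a).mul_left hga) (fun v hv => hv.2.2.mul_left (hg v hv))
        fun v hv => ?_
      obtain ⟨hm, em⟩ := rimg_sandwich htt hb'.1 hab hv
      have := q _ (rimg_mem hv)
      rw [(hψ hv).2, ← em, h.core.rimg_inj hb'.1 (hψ hv).1 hm] at this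
      simp only [MulAut.conj_apply] at this
      show a * g * v = v * (a * g)
      calc a * g * v = a * (g * v * g⁻¹) * g := by group
        _ = (a * a) * v * (a * g) := by rw [this]; group
        _ = _ := by rw [htt.sq a ha, one_mul]
    rw [eq_inv_of_mul_eq_one_right h1, htt.inv_eq ha]

/-- a neighbour-generated element centralised in the residue -/
theorem center_two [Finite G] {a g : G} (ha : a ∈ D) (hg : g ∈ nbSub D a)
    (e : (QuotientGroup.mk (⟨g, hg⟩ : ↥(nbSub D a)) : Residue D a) = 1) : g = 1 ∨ g = a :=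
  h.kernel ha (nbSub_commute hg).symm fun v hv =>
    (mem_center_nbSub.mp ((QuotientGroup.eq_one_iff _).mp e) v hv).symm

/-- seven commuting members with product the member they are joined to -/
theorem seven_nodup [Finite G] {a : G} (ha : a ∈ D) :
    ∃ l : List G, l.length = 7 ∧ l.Nodup ∧ (∀ x ∈ l, x ∈ nb D a) ∧
      (∀ x ∈ l, ∀ y ∈ l, Commute x y) ∧ l.prod = a := by
  classical
  obtain ⟨b, hb'⟩ := h.core.edge a ha
  have hM := (h.res a ha).2
  obtain ⟨l, hl, hnd, hmem, hcom, hprod⟩ := M23Data.six_nodup hM (rimg_mem hb')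
  choose f hf ef using fun x : Residue D a => fun hx : x ∈ l =>
    h.core.rimg_nb_surj ha hb' (hmem x hx)
  let L : List G := b :: l.attach.map (fun x => f x.1 x.2)
  have hL : L = b :: l.attach.map (fun x => f x.1 x.2) := rfl
  have hLnb : ∀ y ∈ L, y ∈ nb D a := by
    intro y hy
    rcases List.mem_cons.mp hy with rfl | hy
    · exact hb'
    · obtain ⟨⟨x, hx⟩, -, rfl⟩ := List.mem_map.mp hy
      exact (hf x hx).1
  obtain ⟨hm, e⟩ := rimg_prod hLnb
  have e1 : (L.map (rimg D a)).prod = 1 := by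
    rw [hL, List.map_cons, List.map_map, List.prod_cons,
      show (rimg D a ∘ fun x : {x // x ∈ l} => f x.1 x.2) = Subtype.val from
        funext fun x => ef x.1 x.2,
      List.attach_map_subtype_val, hprod, hM.core.tt.sq _ (rimg_mem hb')]
  have hndL : L.Nodup := by
    refine List.nodup_cons.mpr ⟨fun q => ?_, ?_⟩
    · obtain ⟨⟨x, hx⟩, -, exb⟩ := List.mem_map.mp q
      exact (hf x hx).2.2.1 exb
    · refine List.Nodup.map (fun x x' e => Subtype.ext ?_) (List.nodup_attach.mpr hnd)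
      rw [← ef x.1 x.2, ← ef x'.1 x'.2]
      exact congrArg (rimg D a) e
  have key : ∀ {y}, y ∈ L → y = b ∨ ∃ x, ∃ hx : x ∈ l, y = f x hx := fun {y} hy => by
    rw [hL] at hy
    rcases List.mem_cons.mp hy with q | hy
    · exact Or.inl q
    · obtain ⟨⟨x, hx⟩, -, q⟩ := List.mem_map.mp hy
      exact Or.inr ⟨x, hx, q.symm⟩
  have hcomL : ∀ y ∈ L, ∀ z ∈ L, Commute y z := by
    intro y hy z hz
    rcases key hy with rfl | ⟨x, hx, rfl⟩
    · rcases key hz with rfl | ⟨x', hx', rfl⟩
      exacts [Commute.refl _, (hf x' hx').2.2.2]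
    · rcases key hz with rfl | ⟨x', hx', rfl⟩
      · exact (hf x hx).2.2.2.symm
      · refine (h.core.rimg_comm (hf x hx).1 (hf x' hx').1).mp ?_
        rw [ef, ef]
        exact hcom x hx x' hx'
  refine ⟨L, by simp [hL, hl], hndL, hLnb, hcomL, ?_⟩
  rcases h.center_two ha hm (e.trans e1) with q | q
  · exact absurd q (h.ind L hndL (by simp [hL]) (by simp [hL, hl]) (fun y hy => (hLnb y hy).1) hcomL)
  · exact q

theorem self_mem [Finite G] {a : G} (ha : a ∈ D) : a ∈ nbSub D a := by
  obtain ⟨l, -, -, hmem, -, hprod⟩ := h.seven_nodup ha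
  have := list_prod_mem (S := nbSub D a) (l := l) fun x hx => Subgroup.subset_closure (hmem x hx)
  rwa [hprod] at this

/-- a neighbour-generated element fixing a neighbour -/
theorem split [Finite G] {a b g : G} (ha : a ∈ D) (hb' : b ∈ nb D a) (hg : g ∈ nbSub D a)
    (hc : Commute g b) :
    ∃ k ∈ Subgroup.closure (nb D a ∩ nb D b), ∃ c, (c = 1 ∨ c = a) ∧ g = k * c := by
  set H : Subgroup ↥(nbSub D a) := (Subgroup.closure (nb D a ∩ nb D b)).comap (nbSub D a).subtype
  have hle : nbSub (resSet D a) (rimg D a b) ≤ H.map (QuotientGroup.mk' _) := by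
    rw [Subgroup.closure_le]
    intro e he
    obtain ⟨z, hz, rfl⟩ := h.core.rimg_nb_surj ha hb' he
    exact ⟨nbElem hz.1, Subgroup.subset_closure hz, (rimg_eq hz.1).symm⟩
  have hm : (QuotientGroup.mk (⟨g, hg⟩ : ↥(nbSub D a)) : Residue D a) ∈
      Subgroup.centralizer ({rimg D a b} : Set (Residue D a)) := by
    rw [rimg_eq hb']
    refine Subgroup.mem_centralizer_singleton_iff.mpr ?_
    rw [← QuotientGroup.mk_mul, ← QuotientGroup.mk_mul]
    exact congrArg QuotientGroup.mk (Subtype.ext hc.eq)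
  rw [(h.res a ha).1.cent _ (rimg_mem hb')] at hm
  obtain ⟨k, hk, ek⟩ := hle hm
  have ek' : (QuotientGroup.mk (k⁻¹ * ⟨g, hg⟩) : Residue D a) = 1 := by
    rw [QuotientGroup.mk_mul, QuotientGroup.mk_inv, inv_mul_eq_one]
    exact ek
  refine ⟨k, hk, (k : G)⁻¹ * g, h.center_two ha (k⁻¹ * ⟨g, hg⟩ : ↥(nbSub D a)).2 ek', ?_⟩
  group

theorem stab [Finite G] {x z g : G} (hx : x ∈ D) (hz : z ∈ nb D x) (hg : g ∈ nbSub D z)
    (hc : Commute g x) : g ∈ nbSub D x := by
  obtain ⟨k, hk, c, hc', rfl⟩ := h.split hz.1 (nb_symm hx hz) hg hc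
  have hle : Subgroup.closure (nb D z ∩ nb D x) ≤ nbSub D x :=
    Subgroup.closure_mono Set.inter_subset_right
  exact mul_mem (hle hk) (two_mem_center hc' (Subgroup.subset_closure hz))

end Data24

end Cfsg.Agent.H61.M24
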