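import Cfsg.Agent.H61.M24.Cover
import Cfsg.Agent.H80.Fischer.Width

/-!
Groups of type M(24): 306936 members, the order of the group, and the width 24.
-/

set_option autoImplicit false

namespace Cfsg.Agent.H61.M24

open Cfsg.Agent.H93

variable {G : Type*} [Group G] {D : Set G}

/-- what is used about groups of type M(24) -/
structure Geo24 (D : Set G) : Prop where
  data : Data24 D
  cent : ∀ a ∈ D, Subgroup.centralizer ({a} : Set G) = nbSub D a
  far : ∀ a ∈ D, ∀ d ∈ D, ¬ Commute a d → ∃ z, z ∈ common D a d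
  common : ∀ a ∈ D, ∀ d ∈ D, ¬ Commute a d → (common D a d).ncard = 3240
  meets : ∀ a ∈ D, ∀ d ∈ D, ¬ Commute a d → ∀ q ∈ nb D d,
    q ∈ H93.common D a d ∨ ∃ z ∈ H93.common D a d, q ∈ nb D z

theorem geo24 [Finite G] (hD : Cfsg.IsThreeTranspositionGroup D)
    (hprim : Cfsg.IsPrimitiveUnderConj D) (h24 : Cfsg.IsOfTypeM24 G D) : Geo24 D := by
  have h := data24 hD hprim h24
  refine ⟨h, fun a ha => h.cent h24 ha, fun a ha d hd hn => h.far_nonempty h24 ha hd hn,
    fun a ha d hd hn => ?_, fun a ha d hd hn => ?_⟩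
  · obtain ⟨z, hz⟩ := h.far_nonempty h24 ha hd hn
    exact (h.common_all h24 ha hd hn hz).1
  · obtain ⟨z, hz⟩ := h.far_nonempty h24 ha hd hn
    exact (h.common_all h24 ha hd hn hz).2

namespace Geo24

variable (h : Geo24 D) [Finite G]

include h

/-- the residue has the order of a group of type M(23) -/
theorem card_residue {a : G} (ha : a ∈ D) :
    Nat.card (Residue D a) = 31671 * (2 * 3510 * 18393661440) := by
  obtain ⟨b, hb⟩ := h.data.core.edge a ha
  exact (h.data.res a ha).1.card_group (rimg_mem hb)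

/-- the centre of a member's centraliser -/
theorem center_iff {a : G} (ha : a ∈ D) (x : ↥(nbSub D a)) :
    x ∈ Subgroup.center ↥(nbSub D a) ↔ (x : G) = 1 ∨ (x : G) = a := by
  constructor
  · intro hx
    exact h.data.center_two ha x.2 ((QuotientGroup.eq_one_iff _).mpr hx)
  · rintro (e | e) <;> rw [mem_center_nbSub, e]
    · exact fun v _ => Commute.one_right v
    · exact fun v hv => hv.2.2.symm

/-- the centraliser of a member -/
theorem card_member {a : G} (ha : a ∈ D) :
    Nat.card ↥(Subgroup.centralizer ({a} : Set G)) = 2 * (31671 * (2 * 3510 * 18393661440)) := by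
  rw [h.cent a ha, Subgroup.card_eq_card_quotient_mul_card_subgroup (Subgroup.center ↥(nbSub D a)),
    show Nat.card (↥(nbSub D a) ⧸ Subgroup.center ↥(nbSub D a)) = Nat.card (Residue D a) from rfl,
    h.card_residue ha, mul_comm]
  congr 1
  rw [← Subgroup.card_map_of_injective (f := (nbSub D a).subtype) Subtype.val_injective,
    show (Subgroup.center ↥(nbSub D a)).map (nbSub D a).subtype = Subgroup.zpowers a from ?_,
    Nat.card_zpowers, orderOf_eq_prime (by rw [pow_two]; exact h.data.core.tt.sq a ha)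
      (h.data.core.ne_one a ha)]
  refine le_antisymm ?_ (Subgroup.zpowers_le.mpr
    ⟨⟨a, h.data.self_mem ha⟩, (h.center_iff ha _).mpr (Or.inr rfl), rfl⟩)
  rintro _ ⟨x, hx, rfl⟩
  rcases (h.center_iff ha x).mp hx with e | e
  · rw [show (nbSub D a).subtype x = 1 from e]; exact one_mem _
  · rw [show (nbSub D a).subtype x = a from e]; exact Subgroup.mem_zpowers a

/-- the members not commuting with a given one -/
theorem card_far {a : G} (ha : a ∈ D) : {y | y ∈ D ∧ ¬ Commute a y}.ncard = 275264 := by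
  classical
  haveI := Fintype.ofFinite G
  set F := {y | y ∈ D ∧ ¬ Commute a y}
  have hsum := Finset.sum_card_bipartiteAbove_eq_sum_card_bipartiteBelow (s := (nb D a).toFinset)
    (t := F.toFinset) (fun z y => y ∈ nb D z)
  simp only [Finset.bipartiteAbove, Finset.bipartiteBelow] at hsum
  have toSet : ∀ (T : Set G) [Fintype ↥T] (p : G → Prop) [DecidablePred p],
      (T.toFinset.filter p).card = {x | x ∈ T ∧ p x}.ncard := fun T _ p _ => by
    rw [← Set.ncard_coe_finset]
    congr 1
    ext x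
    simp
  have row : ∀ z ∈ (nb D a).toFinset, (F.toFinset.filter fun y => y ∈ nb D z).card = 28160 := by
    intro z hz
    rw [Set.mem_toFinset] at hz
    have az := nb_symm ha hz
    have hM := (h.data.res z hz.1).1
    refine Eq.trans (toSet F (fun y => y ∈ nb D z)) ?_
    rw [← hM.card_far (rimg_mem az)]
    refine Set.BijOn.ncard_eq (f := rimg D z) ⟨?_, ?_, ?_⟩
    · rintro y ⟨⟨-, hn⟩, hy⟩
      exact ⟨rimg_mem hy, fun q => hn ((h.data.core.rimg_comm az hy).mp q)⟩
    · intro y hy y' hy' e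
      exact (h.data.core.rimg_inj hz.1 hy.2 hy'.2).mp e
    · rintro e ⟨he, hn⟩
      obtain ⟨y, hy, rfl⟩ := rimg_surj he
      exact ⟨y, ⟨⟨hy.1, fun q => hn ((h.data.core.rimg_comm az hy).mpr q)⟩, hy⟩, rfl⟩
  have col : ∀ y ∈ F.toFinset, ((nb D a).toFinset.filter fun z => y ∈ nb D z).card = 3240 := by
    intro y hy
    rw [Set.mem_toFinset] at hy
    refine Eq.trans (toSet (nb D a) (fun z => y ∈ nb D z)) ?_
    rw [← h.common a ha y hy.1 hy.2]
    congr 1
    ext z
    exact ⟨fun q => ⟨q.1, nb_symm q.1.1 q.2⟩, fun q => ⟨q.1, nb_symm hy.1 q.2⟩⟩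
  rw [Finset.sum_congr rfl row, Finset.sum_congr rfl col, Finset.sum_const, Finset.sum_const,
    ← Set.ncard_eq_toFinset_card', ← Set.ncard_eq_toFinset_card', h.data.card_nb ha,
    smul_eq_mul, smul_eq_mul] at hsum
  omega

/-- the number of members -/
theorem card_members {a : G} (ha : a ∈ D) : D.ncard = 306936 := by
  have hsplit : D = insert a (nb D a) ∪ {y : G | y ∈ D ∧ ¬ Commute a y} := by
    ext y
    constructor
    · intro hy
      by_cases hc : Commute a y
      · by_cases e : y = a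
        · exact Or.inl (Or.inl e)
        · exact Or.inl (Or.inr ⟨hy, e, hc⟩)
      · exact Or.inr ⟨hy, hc⟩
    · rintro ((rfl | hy) | hy)
      exacts [ha, hy.1, hy.1]
  have hdisj : Disjoint (insert a (nb D a)) {y : G | y ∈ D ∧ ¬ Commute a y} := by
    rw [Set.disjoint_left]
    rintro y (rfl | hy) hy'
    exacts [hy'.2 (Commute.refl _), hy'.2 hy.2.2]
  conv_lhs => rw [hsplit]
  rw [Set.ncard_union_eq hdisj, Set.ncard_insert_of_notMem (fun q => q.2.1 rfl), h.data.card_nb ha,
    h.card_far ha]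

/-- the order of the group -/
theorem card_group {a : G} (ha : a ∈ D) :
    Nat.card G = 306936 * (2 * (31671 * (2 * 3510 * 18393661440))) := by
  have horb := card_of_transitive (⊤ : Subgroup G) ((fun y => (y, y, y)) '' D) a a a le_top
    (fun g _ => ⟨g * a * g⁻¹, h.data.core.tt.conj_mem g a ha, rfl⟩)
    (fun t ht => by
      obtain ⟨y, hy, rfl⟩ := ht
      obtain ⟨g, hg⟩ := isConj_iff.mp (h.data.core.cls a ha y hy)
      exact ⟨g, Subgroup.mem_top g, by simp only [conj3, hg]⟩)
  rw [Subgroup.card_top, Set.ncard_image_of_injective _ (fun p q e => congrArg (fun t => t.1) e),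
    h.card_members ha, show ({a, a, a} : Set G) = {a} by simp, h.card_member ha] at horb
  exact horb

/-- the largest sets of pairwise commuting members -/
theorem width {a : G} (ha : a ∈ D) : Cfsg.commutingWidth D = 24 := by
  refine H80.Fischer.width_eq (fun E hE hc => ?_) ?_
  · rcases E.eq_empty_or_nonempty with rfl | ⟨e, he⟩
    · simp
    obtain ⟨b, hb⟩ := h.data.core.edge e (hE he)
    have hw := H80.Fischer.width23 (h.data.res e (hE he)).1 (rimg_mem hb)
    have hsub : ∀ y ∈ E \ {e}, y ∈ nb D e := fun y hy => ⟨hE hy.1, hy.2, hc e he y hy.1⟩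
    have h1 : (rimg D e '' (E \ {e})).ncard ≤ 23 := by
      rw [← hw]
      refine le_csSup ⟨(resSet D e).ncard, ?_⟩ ⟨_, ?_, Set.toFinite _, ?_, rfl⟩
      · rintro n ⟨S, hS, -, -, rfl⟩
        exact Set.ncard_le_ncard hS
      · rintro _ ⟨y, hy, rfl⟩
        exact rimg_mem (hsub y hy)
      · rintro _ ⟨y, hy, rfl⟩ _ ⟨z, hz, rfl⟩
        exact (h.data.core.rimg_comm (hsub y hy) (hsub z hz)).mpr (hc y hy.1 z hz.1)
    rw [Set.InjOn.ncard_image fun y hy z hz q =>
      (h.data.core.rimg_inj (hE he) (hsub y hy) (hsub z hz)).mp q,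
      Set.ncard_sdiff_singleton_of_mem he] at h1
    omega
  · obtain ⟨b, hb⟩ := h.data.core.edge a ha
    have hw := H80.Fischer.width23 (h.data.res a ha).1 (rimg_mem hb)
    have hne : {n : ℕ | ∃ S : Set (Residue D a), S ⊆ resSet D a ∧ S.Finite ∧
        (∀ x ∈ S, ∀ y ∈ S, Commute x y) ∧ S.ncard = n}.Nonempty :=
      ⟨0, ∅, Set.empty_subset _, Set.finite_empty, by simp, Set.ncard_empty _⟩
    have hbdd : BddAbove {n : ℕ | ∃ S : Set (Residue D a), S ⊆ resSet D a ∧ S.Finite ∧
        (∀ x ∈ S, ∀ y ∈ S, Commute x y) ∧ S.ncard = n} :=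
      ⟨(resSet D a).ncard, by rintro n ⟨S, hS, -, -, rfl⟩; exact Set.ncard_le_ncard hS⟩
    have hmem := Nat.sSup_mem hne hbdd
    obtain ⟨E', hE', -, hc', hn⟩ := hmem
    have hn' : E'.ncard = 23 := hn.trans hw
    set E := {y | y ∈ nb D a ∧ rimg D a y ∈ E'} with hEdef
    have himg : rimg D a '' E = E' := by
      refine Set.Subset.antisymm (by rintro _ ⟨y, hy, rfl⟩; exact hy.2) fun e he => ?_
      obtain ⟨y, hy, rfl⟩ := rimg_surj (hE' he)
      exact ⟨y, ⟨hy, he⟩, rfl⟩
    rw [← himg, Set.InjOn.ncard_image fun y hy z hz q =>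
      (h.data.core.rimg_inj ha hy.1 hz.1).mp q] at hn'
    refine ⟨insert a E, ?_, Set.toFinite _, ?_, ?_⟩
    · rintro y (rfl | hy)
      exacts [ha, hy.1.1]
    · rintro x (rfl | hx) y (rfl | hy)
      · exact Commute.refl _
      · exact hy.1.2.2
      · exact hx.1.2.2.symm
      · exact (h.data.core.rimg_comm hx.1 hy.1).mp (hc' _ hx.2 _ hy.2)
    · rw [Set.ncard_insert_of_notMem (fun q => q.1.2.1 rfl) (Set.toFinite _), hn']

end Geo24

end Cfsg.Agent.H61.M24
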