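import Mathlib.Algebra.BigOperators.Ring.Finset
import Mathlib.Algebra.Order.BigOperators.Group.Finset
import Mathlib.Algebra.Order.Chebyshev
import Mathlib.Tactic.Ring
import Mathlib.Tactic.Linarith

/-!
The second moment of the number of neighbours in a subset of a strongly regular graph.
-/

set_option autoImplicit false

namespace Cfsg.Agent.H61.M24

variable {α : Type*} [DecidableEq α] {S P : Finset α} {R : α → α → Prop} [DecidableRel R]

theorem sum_inner {K lam μ t : ℕ}
    (hirr : ∀ r, ¬ R r r)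
    (hK : ∀ r ∈ P, (S.filter (R r)).card = K)
    (ht : ∀ r ∈ P, (P.filter (R r)).card = t)
    (hlam : ∀ r ∈ P, ∀ r' ∈ P, R r r' → (S.filter fun f => R r f ∧ R r' f).card = lam)
    (hμ : ∀ r ∈ P, ∀ r' ∈ P, r ≠ r' → ¬ R r r' → (S.filter fun f => R r f ∧ R r' f).card = μ)
    {r : α} (hr : r ∈ P) :
    ∑ r' ∈ P, (S.filter fun f => R r f ∧ R r' f).card =
      K + (t * lam + (P.card - 1 - t) * μ) := by
  rw [← Finset.add_sum_erase P _ hr]
  congr 1
  · simp only [and_self]; exact hK r hr
  rw [← Finset.sum_filter_add_sum_filter_not (P.erase r) (R r)]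
  have h1 : (P.erase r).filter (R r) = P.filter (R r) := by
    ext v
    simp only [Finset.mem_filter, Finset.mem_erase]
    exact ⟨fun q => ⟨q.1.2, q.2⟩, fun q => ⟨⟨fun e => hirr r (e ▸ q.2), q.1⟩, q.2⟩⟩
  have h2 : ((P.erase r).filter fun v => ¬ R r v).card = P.card - 1 - t := by
    have hsum := Finset.card_filter_add_card_filter_not (s := P.erase r) (R r)
    rw [h1, ht r hr, Finset.card_erase_of_mem hr] at hsum
    omega
  rw [h1, Finset.sum_congr rfl (fun v hv => hlam r hr v (Finset.mem_filter.mp hv).1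
      (Finset.mem_filter.mp hv).2), Finset.sum_const, smul_eq_mul, ht r hr,
    Finset.sum_congr rfl (fun v hv => hμ r hr v
      (Finset.mem_erase.mp (Finset.mem_filter.mp hv).1).2
      (fun e => (Finset.mem_erase.mp (Finset.mem_filter.mp hv).1).1 e.symm)
      (Finset.mem_filter.mp hv).2), Finset.sum_const, smul_eq_mul, h2]

/-- the first two moments of the number of neighbours in `P` of the points outside `P` -/
theorem moments {K lam μ t : ℕ} (hPS : P ⊆ S)
    (hirr : ∀ r, ¬ R r r) (hsymm : ∀ r ∈ S, ∀ f ∈ S, R r f → R f r)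
    (hK : ∀ r ∈ P, (S.filter (R r)).card = K)
    (ht : ∀ r ∈ P, (P.filter (R r)).card = t)
    (hlam : ∀ r ∈ P, ∀ r' ∈ P, R r r' → (S.filter fun f => R r f ∧ R r' f).card = lam)
    (hμ : ∀ r ∈ P, ∀ r' ∈ P, r ≠ r' → ¬ R r r' → (S.filter fun f => R r f ∧ R r' f).card = μ) :
    (∑ f ∈ S \ P, (P.filter fun r => R r f).card) + P.card * t = P.card * K ∧
    (∑ f ∈ S \ P, (P.filter fun r => R r f).card ^ 2) + P.card * t ^ 2 =
      P.card * (K + (t * lam + (P.card - 1 - t) * μ)) := by
  have hPt : ∀ f ∈ P, (P.filter fun r => R r f).card = t := fun f hf => by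
    rw [← ht f hf]
    congr 1
    ext r
    simp only [Finset.mem_filter]
    exact ⟨fun q => ⟨q.1, hsymm r (hPS q.1) f (hPS hf) q.2⟩,
      fun q => ⟨q.1, hsymm f (hPS hf) r (hPS q.1) q.2⟩⟩
  constructor
  · have h1 : ∑ f ∈ S, (P.filter fun r => R r f).card = P.card * K := by
      simp only [Finset.card_filter]
      rw [Finset.sum_comm]
      simp only [← Finset.card_filter]
      rw [Finset.sum_congr rfl hK, Finset.sum_const, smul_eq_mul]
    rw [← h1, ← Finset.sum_sdiff hPS, Finset.sum_congr rfl hPt, Finset.sum_const, smul_eq_mul]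
  · have h2 : ∑ f ∈ S, (P.filter fun r => R r f).card ^ 2 =
        P.card * (K + (t * lam + (P.card - 1 - t) * μ)) := by
      have e : ∀ f, (P.filter fun r => R r f).card ^ 2 =
          ∑ r ∈ P, ∑ r' ∈ P, if R r f ∧ R r' f then 1 else 0 := fun f => by
        rw [pow_two, Finset.card_filter, Finset.sum_mul_sum]
        refine Finset.sum_congr rfl fun r _ => Finset.sum_congr rfl fun r' _ => ?_
        by_cases h1 : R r f <;> by_cases h2 : R r' f <;> simp [h1, h2]
      simp only [e]
      rw [Finset.sum_comm, Finset.sum_congr rfl (g := fun _ =>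
        K + (t * lam + (P.card - 1 - t) * μ)) (fun r hr => by
          rw [Finset.sum_comm]
          simp only [← Finset.card_filter]
          exact sum_inner hirr hK ht hlam hμ hr), Finset.sum_const, smul_eq_mul]
    rw [← h2, ← Finset.sum_sdiff hPS, Finset.sum_congr rfl (s₁ := P) (g := fun _ => t ^ 2)
      (fun f hf => by rw [hPt f hf]), Finset.sum_const, smul_eq_mul]

/-- the bound from the two moments -/
theorem support_bound {T : Finset α} {x : α → ℕ} :
    (∑ f ∈ T, x f) ^ 2 ≤ (T.filter fun f => x f ≠ 0).card * ∑ f ∈ T, x f ^ 2 := by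
  have e1 : ∑ f ∈ T, x f = ∑ f ∈ T.filter (fun f => x f ≠ 0), x f :=
    (Finset.sum_filter_ne_zero T).symm
  rw [e1]
  refine (sq_sum_le_card_mul_sum_sq).trans (Nat.mul_le_mul_left _ ?_)
  exact Finset.sum_le_sum_of_subset (Finset.filter_subset _ _)

end Cfsg.Agent.H61.M24
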