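import Cfsg.Agent.H61.M24.Data
import Cfsg.Agent.H61.M24.Moment
import Cfsg.Agent.S0293

/-!
Groups of type M(24): at most 3240 common neighbours of a pair, and when there are that many every
member meets them.
-/

set_option autoImplicit false

namespace Cfsg.Agent.H61.M24

open Cfsg.Agent.H93

variable {G : Type*} [Group G] {D : Set G}

/-- the neighbours of two members, read in the residue at a common neighbour -/
theorem card_res_common (h : Core D) {z p q : G} (hz : z ∈ D) (hp : p ∈ nb D z) (hq : q ∈ nb D z) :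
    (nb D z ∩ (nb D p ∩ nb D q)).ncard =
      (common (resSet D z) (rimg D z p) (rimg D z q)).ncard := by
  have key : ∀ {p x}, p ∈ nb D z → x ∈ nb D z →
      (rimg D z x ∈ nb (resSet D z) (rimg D z p) ↔ x ∈ nb D p) := by
    intro p x hp hx
    exact ⟨fun e => ⟨hx.1, fun u => e.2.1 (by rw [u]), (h.rimg_comm hp hx).mp e.2.2⟩,
      fun e => h.rimg_nb hz hp ⟨hx, e⟩⟩
  refine Set.BijOn.ncard_eq (f := rimg D z) ⟨?_, ?_, ?_⟩
  · intro x hx
    exact ⟨(key hp hx.1).mpr hx.2.1, (key hq hx.1).mpr hx.2.2⟩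
  · intro x hx y hy e
    exact (h.rimg_inj hz hx.1 hy.1).mp e
  · intro e he
    obtain ⟨x, hx, rfl⟩ := rimg_surj he.1.1
    exact ⟨x, ⟨hx, (key hp hx).mp he.1, (key hq hx).mp he.2⟩, rfl⟩

theorem card_res_nb (h : Core D) {z p : G} (hz : z ∈ D) (hp : p ∈ nb D z) :
    (nb D z ∩ nb D p).ncard = (nb (resSet D z) (rimg D z p)).ncard := by
  have := card_res_common h hz hp hp
  rwa [Set.inter_self, common, Set.inter_self] at this

theorem card_res_all (h : Core D) {z : G} (hz : z ∈ D) :
    (nb D z).ncard = (resSet D z).ncard := by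
  refine Set.BijOn.ncard_eq (f := rimg D z) ⟨fun y hy => rimg_mem hy,
    fun y hy y' hy' e => (h.rimg_inj hz hy hy').mp e, fun e he => ?_⟩
  obtain ⟨y, hy, rfl⟩ := rimg_surj he
  exact ⟨y, hy, rfl⟩

/-- neighbours common to two commuting members of a group of type M(23) -/
theorem Geo23.card_nb_nb [Finite G] (h : Geo23 D) {a z : G} (ha : a ∈ D) (hz : z ∈ nb D a) :
    (common D a z).ncard = 693 := by
  obtain ⟨K, iK, iKF, h22⟩ := h.res a ha
  have e := card_res_nb h.core ha hz
  rw [h22.card_nb (rimg_mem hz)] at e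
  exact e

namespace Data24

variable (h : Data24 D) [Finite G]

include h

theorem card_nb {a : G} (ha : a ∈ D) : (nb D a).ncard = 31671 := by
  obtain ⟨b, hb⟩ := h.core.edge a ha
  rw [card_res_all h.core ha, (h.res a ha).1.card_members (rimg_mem hb)]

theorem card_nb_nb {a z : G} (ha : a ∈ D) (hz : z ∈ nb D a) : (nb D a ∩ nb D z).ncard = 3510 := by
  rw [card_res_nb h.core ha hz, (h.res a ha).1.card_nb (rimg_mem hz)]

theorem card_nb_three {a z w : G} (ha : a ∈ D) (hz : z ∈ nb D a) (hw : w ∈ nb D a ∩ nb D z) :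
    (nb D a ∩ (nb D z ∩ nb D w)).ncard = 693 := by
  rw [card_res_common h.core ha hz hw.1]
  exact Geo23.card_nb_nb (h.res a ha).1 (rimg_mem hz) (h.core.rimg_nb ha hz hw)

theorem card_nb_far {a z w : G} (ha : a ∈ D) (hz : z ∈ nb D a) (hw : w ∈ nb D a)
    (hn : ¬ Commute z w) : (nb D a ∩ (nb D z ∩ nb D w)).ncard = 351 := by
  rw [card_res_common h.core ha hz hw]
  exact (h.res a ha).1.card_common (rimg_mem hz) (rimg_mem hw)
    fun q => hn ((h.core.rimg_comm hz hw).mp q)

theorem card_slice {a y z : G} (ha : a ∈ D) (hy : y ∈ D) (hn : ¬ Commute a y)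
    (hz : z ∈ common D a y) : (common D a y ∩ nb D z).ncard = 351 := by
  rw [Set.inter_comm]
  exact h.card_nb_far hz.1.1 (nb_symm ha hz.1) (nb_symm hy hz.2) hn

/-- two moments: the bound on common neighbours, and coverage at equality -/
theorem common_bound {a y : G} (ha : a ∈ D) (hy : y ∈ D) (hn : ¬ Commute a y) :
    (common D a y).ncard ≤ 3240 ∧ (3240 ≤ (common D a y).ncard →
      ∀ q ∈ nb D y, q ∈ common D a y ∨ ∃ z ∈ common D a y, q ∈ nb D z) := by
  classical
  haveI := Fintype.ofFinite G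
  let S := (nb D y).toFinset
  let P := (common D a y).toFinset
  let R : G → G → Prop := fun r f => f ∈ nb D r
  have toSet : ∀ (T : Set G) (p : G → Prop) [DecidablePred p],
      (T.toFinset.filter p).card = {x | x ∈ T ∧ p x}.ncard := fun T p _ => by
    rw [← Set.ncard_coe_finset]
    congr 1
    ext x
    simp
  have hPS : P ⊆ S := fun x hx => Set.mem_toFinset.mpr (Set.mem_toFinset.mp hx).2
  obtain ⟨m1, m2⟩ := moments (S := S) (P := P) (R := R) (K := 3510) (lam := 693) (μ := 351)
    (t := 351) hPS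
    (fun r q => q.2.1 rfl)
    (fun r hr f hf q => nb_symm (Set.mem_toFinset.mp hr).1 q)
    (fun r hr => by
      rw [toSet]
      exact h.card_nb_nb hy (Set.mem_toFinset.mp hr).2)
    (fun r hr => by
      rw [toSet]
      exact h.card_slice ha hy hn (Set.mem_toFinset.mp hr))
    (fun r hr r' hr' q => by
      rw [toSet]
      exact h.card_nb_three hy (Set.mem_toFinset.mp hr).2 ⟨(Set.mem_toFinset.mp hr').2, q⟩)
    (fun r hr r' hr' hne q => by
      rw [toSet]
      exact h.card_nb_far hy (Set.mem_toFinset.mp hr).2 (Set.mem_toFinset.mp hr').2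
        fun c => q ⟨(Set.mem_toFinset.mp hr').1.1, fun e => hne e.symm, c⟩)
  have hPk : P.card = (common D a y).ncard := (Set.ncard_eq_toFinset_card' _).symm
  have hSk : S.card = 31671 := by
    rw [← h.card_nb hy]; exact (Set.ncard_eq_toFinset_card' _).symm
  rcases P.eq_empty_or_nonempty with e | ⟨r0, hr0⟩
  · rw [← hPk, e, Finset.card_empty]
    exact ⟨Nat.zero_le _, fun q => absurd q (by norm_num)⟩
  have h352 : 352 ≤ P.card := by
    have hs := h.card_slice ha hy hn (Set.mem_toFinset.mp hr0)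
    have hsub : insert r0 (common D a y ∩ nb D r0) ⊆ common D a y :=
      Set.insert_subset (Set.mem_toFinset.mp hr0) Set.inter_subset_left
    have := Set.ncard_le_ncard hsub
    rw [Set.ncard_insert_of_notMem (fun q => q.2.2.1 rfl), hs] at this
    rw [hPk]; omega
  let x : G → ℕ := fun f => (P.filter fun r => R r f).card
  set supp := ((S \ P).filter fun f => x f ≠ 0).card with hsupp
  have hb := support_bound (T := S \ P) (x := x)
  have hout : (S \ P).card + P.card = 31671 := by
    rw [Finset.card_sdiff_add_card_eq_card hPS, hSk]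
  obtain ⟨j, hj⟩ : ∃ j, P.card = 352 + j := ⟨_, (Nat.add_sub_cancel' h352).symm⟩
  have e1 : ∑ f ∈ S \ P, x f = 3159 * P.card := by
    show ∑ f ∈ S \ P, (P.filter fun r => R r f).card = _
    omega
  have e2 : ∑ f ∈ S \ P, x f ^ 2 = 351 * P.card ^ 2 := by
    show ∑ f ∈ S \ P, (P.filter fun r => R r f).card ^ 2 = _
    rw [show P.card - 1 - 351 = j by omega] at m2
    have : P.card * (3510 + (351 * 693 + j * 351)) = P.card * 351 ^ 2 + 351 * P.card ^ 2 := by
      rw [hj]; ring
    omega
  rw [e1, e2, ← hsupp] at hb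
  have h28431 : 28431 ≤ supp := by
    have : 9979281 * P.card ^ 2 ≤ (351 * supp) * P.card ^ 2 := by nlinarith
    have := Nat.le_of_mul_le_mul_right this (pow_pos (by omega) 2)
    omega
  have hle : supp ≤ (S \ P).card := Finset.card_filter_le _ _
  refine ⟨by rw [← hPk]; omega, fun h3240 q hq => ?_⟩
  by_cases hqC : q ∈ common D a y
  · exact Or.inl hqC
  right
  have hall : ∀ f ∈ S \ P, x f ≠ 0 := by
    intro f hf
    have heq : (S \ P).filter (fun f => x f ≠ 0) = S \ P :=
      Finset.eq_of_subset_of_card_le (Finset.filter_subset _ _) (by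
        rw [← hsupp]
        rw [← hPk] at h3240
        omega)
    rw [← heq] at hf
    exact (Finset.mem_filter.mp hf).2
  obtain ⟨z, hz⟩ := Finset.card_ne_zero.mp (hall q (Finset.mem_sdiff.mpr
    ⟨Set.mem_toFinset.mpr hq, fun u => hqC (Set.mem_toFinset.mp u)⟩))
  exact ⟨z, Set.mem_toFinset.mp (Finset.mem_filter.mp hz).1, (Finset.mem_filter.mp hz).2⟩

/-- pairs with a common neighbour are conjugate -/
theorem conj_pair {a y d c z z' : G} (ha : a ∈ D) (hy : y ∈ D) (hn : ¬ Commute a y)
    (hz : z ∈ common D a y) (hd : d ∈ D) (hc : c ∈ D) (hdc : ¬ Commute d c)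
    (hz' : z' ∈ common D d c) : ∃ g : G, g * d * g⁻¹ = a ∧ g * c * g⁻¹ = y := by
  have htt := h.core.tt
  obtain ⟨g1, e1⟩ := isConj_iff.mp (h.core.cls z' hz'.1.1 z hz.1.1)
  have zD := hz.1.1
  have az := nb_symm ha hz.1
  have yz := nb_symm hy hz.2
  have dz : g1 * d * g1⁻¹ ∈ nb D z := by
    have := htt.nb_conj g1 (nb_symm hd hz'.1); rwa [e1] at this
  have cz : g1 * c * g1⁻¹ ∈ nb D z := by
    have := htt.nb_conj g1 (nb_symm hc hz'.2); rwa [e1] at this
  have hM := (h.res z zD).1
  obtain ⟨γ1, f1⟩ := isConj_iff.mp (hM.core.cls _ (rimg_mem dz) _ (rimg_mem az))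
  obtain ⟨⟨k1, hk1⟩, rfl⟩ := QuotientGroup.mk_surjective γ1
  obtain ⟨hm1, f1'⟩ := Geo23.rimg_conj htt zD hk1 dz
  obtain ⟨hm2, -⟩ := Geo23.rimg_conj htt zD hk1 cz
  rw [← f1', h.core.rimg_inj zD hm1 az] at f1
  have hn' : ¬ Commute a (k1 * (g1 * c * g1⁻¹) * k1⁻¹) := fun q => hdc (by
    rw [← f1, commute_conj, commute_conj] at q; exact q)
  obtain ⟨γ2, c2, f2⟩ := hM.conj_far (rimg_mem az) (rimg_mem yz) (rimg_mem hm2)
    (fun q => hn ((h.core.rimg_comm az yz).mp q))
    (fun q => hn' ((h.core.rimg_comm az hm2).mp q))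
  obtain ⟨⟨k2, hk2⟩, rfl⟩ := QuotientGroup.mk_surjective γ2
  obtain ⟨hm3, f2'⟩ := Geo23.rimg_conj htt zD hk2 hm2
  obtain ⟨hm4, f4⟩ := Geo23.rimg_conj htt zD hk2 az
  rw [← f2', h.core.rimg_inj zD hm3 yz] at f2
  rw [c2.eq, mul_inv_cancel_right, h.core.rimg_inj zD hm4 az] at f4
  refine ⟨k2 * k1 * g1, ?_, ?_⟩
  · rw [show k2 * k1 * g1 * d * (k2 * k1 * g1)⁻¹ = k2 * (k1 * (g1 * d * g1⁻¹) * k1⁻¹) * k2⁻¹ by
      group, f1, f4]
  · rw [show k2 * k1 * g1 * c * (k2 * k1 * g1)⁻¹ = k2 * (k1 * (g1 * c * g1⁻¹) * k1⁻¹) * k2⁻¹ by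
      group, f2]

/-- the group generated by the common neighbours, in the residue at one of them -/
theorem common_stab {a y z : G} (ha : a ∈ D) (hy : y ∈ D) (hn : ¬ Commute a y)
    (hz : z ∈ common D a y) :
    Nat.card ↥(Subgroup.closure (common D a y) ⊓ Subgroup.centralizer ({z} : Set G)) ≤
      2 * 4585351680 := by
  classical
  have az := nb_symm ha hz.1
  have yz := nb_symm hy hz.2
  set K := Subgroup.closure (common D a y) ⊓ Subgroup.centralizer ({z} : Set G)
  have hcomm : ∀ g ∈ K, Commute g a ∧ Commute g y := fun g hg =>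
    ⟨(nbSub_commute (Subgroup.closure_mono Set.inter_subset_left hg.1 : g ∈ nbSub D a)).symm,
      (nbSub_commute (Subgroup.closure_mono Set.inter_subset_right hg.1 : g ∈ nbSub D y)).symm⟩
  have hle : K ≤ nbSub D z := fun g hg => h.stab hz.1.1 az
    (Subgroup.closure_mono Set.inter_subset_left hg.1)
    (Subgroup.mem_centralizer_singleton_iff.mp hg.2)
  let f : ↥K →* Residue D z := (QuotientGroup.mk' _).comp (Subgroup.inclusion hle)
  have hrange : f.range ≤ Subgroup.centralizer ({rimg D z a, rimg D z y} : Set (Residue D z)) := by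
    rintro _ ⟨g, rfl⟩
    refine Subgroup.mem_centralizer_iff.mpr ?_
    have hfix : ∀ {x}, x ∈ nb D z → Commute (g : G) x → rimg D z x * f g = f g * rimg D z x := by
      intro x hx hc
      rw [rimg_eq hx]
      exact congrArg QuotientGroup.mk (Subtype.ext hc.symm.eq :
        nbElem hx * Subgroup.inclusion hle g = Subgroup.inclusion hle g * nbElem hx)
    rintro x (rfl | rfl)
    exacts [hfix az (hcomm _ g.2).1, hfix yz (hcomm _ g.2).2]
  have hker : Nat.card ↥f.ker ≤ 2 := by
    rw [← Subgroup.card_map_of_injective (f := K.subtype) Subtype.val_injective]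
    refine (Subgroup.card_le_of_le (K := Subgroup.zpowers z) ?_).trans ?_
    · rintro _ ⟨g, hg, rfl⟩
      rcases h.center_two hz.1.1 (hle g.2) hg with e | e
      · rw [show K.subtype g = 1 from e]; exact one_mem _
      · rw [show K.subtype g = z from e]; exact Subgroup.mem_zpowers z
    · rw [Nat.card_zpowers]
      exact orderOf_le_of_pow_eq_one (by norm_num) (by rw [pow_two]; exact h.core.tt.sq z hz.1.1)
  rw [← Subgroup.card_mul_index f.ker, Subgroup.index_ker]
  refine Nat.mul_le_mul hker ?_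
  refine (Subgroup.card_le_of_le hrange).trans (le_of_eq ?_)
  exact (h.res z hz.1.1).1.card_pair_num (rimg_mem az) (rimg_mem yz)
    fun q => hn ((h.core.rimg_comm az yz).mp q)

/-- the common neighbours are at least the index of a stabiliser -/
theorem common_lower {a y z : G} (ha : a ∈ D) (hy : y ∈ D) (hn : ¬ Commute a y)
    (hz : z ∈ common D a y) :
    Nat.card ↥(Subgroup.closure (common D a y)) ≤ (common D a y).ncard * (2 * 4585351680) := by
  classical
  set L := Subgroup.closure (common D a y)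
  let f : ↥L → ↥(common D a y) := fun g => ⟨g * z * (g : G)⁻¹, by
    have hga : (g : G) * a * (g : G)⁻¹ = a :=
      mul_inv_eq_iff_eq_mul.mpr
        (nbSub_commute (Subgroup.closure_mono Set.inter_subset_left g.2 : (g : G) ∈ nbSub D a)).symm.eq
    have hgy : (g : G) * y * (g : G)⁻¹ = y :=
      mul_inv_eq_iff_eq_mul.mpr
        (nbSub_commute (Subgroup.closure_mono Set.inter_subset_right g.2 : (g : G) ∈ nbSub D y)).symm.eq
    have := h.core.tt.common_conj (g : G) hz
    rwa [hga, hgy] at this⟩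
  haveI := Fintype.ofFinite ↥L
  haveI := Fintype.ofFinite ↥(common D a y)
  have hfib : ∀ w, (Finset.univ.filter fun g => f g = w).card ≤ 2 * 4585351680 := by
    intro w
    rcases (Finset.univ.filter fun g => f g = w).eq_empty_or_nonempty with e | ⟨g0, hg0⟩
    · simp [e]
    refine le_trans ?_ (h.common_stab ha hy hn hz)
    haveI := Fintype.ofFinite ↥(L ⊓ Subgroup.centralizer ({z} : Set G))
    rw [Nat.card_eq_fintype_card, ← Finset.card_univ]
    have hmem : ∀ g ∈ (Finset.univ.filter fun g => f g = w),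
        (g0 : G)⁻¹ * (g : G) ∈ L ⊓ Subgroup.centralizer ({z} : Set G) := by
      intro g hg
      refine ⟨L.mul_mem (L.inv_mem g0.2) g.2, Subgroup.mem_centralizer_singleton_iff.mpr ?_⟩
      have e : (g : G) * z * (g : G)⁻¹ = (g0 : G) * z * (g0 : G)⁻¹ :=
        congrArg Subtype.val ((Finset.mem_filter.mp hg).2.trans (Finset.mem_filter.mp hg0).2.symm)
      calc (g0 : G)⁻¹ * g * z = (g0 : G)⁻¹ * (g * z * (g : G)⁻¹) * g := by group
        _ = _ := by rw [e]; group
    refine Finset.card_le_card_of_injOn (fun g => if hg : g ∈ (Finset.univ.filter fun g => f g = w)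
      then ⟨_, hmem g hg⟩ else 1) (fun _ _ => Finset.mem_univ _) ?_
    intro g hg g' hg' e
    simp only [Finset.mem_coe] at hg hg'
    simp only [dif_pos hg, dif_pos hg', Subtype.mk.injEq, mul_right_inj] at e
    exact Subtype.ext e
  have := Finset.card_le_mul_card_image (Finset.univ : Finset ↥L) (2 * 4585351680)
    (f := f) (fun w _ => hfib w)
  rw [Nat.card_eq_fintype_card, ← Finset.card_univ, ← Nat.card_coe_set_eq, Nat.card_eq_fintype_card]
  refine this.trans ?_
  rw [mul_comm]
  exact Nat.mul_le_mul_right _ (Finset.card_le_univ _)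

end Data24

/-- the order of the group generated by the common neighbours in the definition of the type -/
theorem type_common [Finite G] (h : Cfsg.IsOfTypeM24 G D) :
    ∃ d ∈ D, ∃ c ∈ D, ¬ Commute d c ∧
      29713078886400 ≤ Nat.card ↥(Subgroup.closure (common D d c)) := by
  obtain ⟨-, d, hd, c, hc, hdc, -, N, hN, ⟨eN⟩, ⟨eq⟩⟩ := h
  haveI := hN
  refine ⟨d, hd, c, hc, hdc, ?_⟩
  have hN' : Nat.card ↥N = 4952179814400 := by
    rw [Nat.card_congr eN.toEquiv]
    have := S0293.result (F := ZMod 3) (q := 3) (ZMod.card 3) 4 le_rfl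
    norm_num [Finset.prod_range_succ] at this
    omega
  have hq : N.index = 6 := by
    rw [Subgroup.index, Nat.card_congr eq.toEquiv, Nat.card_eq_fintype_card, Fintype.card_perm,
      Fintype.card_fin]
    rfl
  have hcard := Subgroup.card_mul_index N
  rw [hN', hq] at hcard
  have hle := Nat.card_le_card_of_surjective
    (QuotientGroup.mk : ↥(Subgroup.closure ({y : G | y ∈ D ∧ y ≠ d ∧ Commute d y} ∩
      {y : G | y ∈ D ∧ y ≠ c ∧ Commute c y})) → _ ⧸
        Subgroup.center ↥(Subgroup.closure ({y : G | y ∈ D ∧ y ≠ d ∧ Commute d y} ∩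
          {y : G | y ∈ D ∧ y ≠ c ∧ Commute c y}))) QuotientGroup.mk_surjective
  calc (29713078886400 : ℕ) = 4952179814400 * 6 := by norm_num
    _ ≤ _ := hcard ▸ hle

/-- the consequences for every pair of non-commuting members -/
theorem Data24.common_all [Finite G] (h : Data24 D) (h24 : Cfsg.IsOfTypeM24 G D) {a y z : G}
    (ha : a ∈ D) (hy : y ∈ D) (hn : ¬ Commute a y) (hz : z ∈ common D a y) :
    (common D a y).ncard = 3240 ∧
      ∀ q ∈ nb D y, q ∈ common D a y ∨ ∃ z ∈ common D a y, q ∈ nb D z := by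
  obtain ⟨d, hd, c, hc, hdc, hbig⟩ := type_common h24
  obtain ⟨z', hz'⟩ : (common D d c).Nonempty := by
    by_contra e
    rw [Set.not_nonempty_iff_eq_empty] at e
    rw [e, Subgroup.closure_empty, Subgroup.card_bot] at hbig
    omega
  have hlow := h.common_lower hd hc hdc hz'
  obtain ⟨g, ed, ec⟩ := h.conj_pair ha hy hn hz hd hc hdc hz'
  have himg : common D a y = (fun x => g * x * g⁻¹) '' common D d c := by
    ext x
    constructor
    · intro hx
      have := h.core.tt.common_conj g⁻¹ hx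
      rw [← ed, ← ec, show g⁻¹ * (g * d * g⁻¹) * g⁻¹⁻¹ = d by group,
        show g⁻¹ * (g * c * g⁻¹) * g⁻¹⁻¹ = c by group] at this
      exact ⟨_, this, by group⟩
    · rintro ⟨x, hx, rfl⟩
      have := h.core.tt.common_conj g hx
      rwa [ed, ec] at this
  obtain ⟨hb, hcov⟩ := h.common_bound ha hy hn
  have hge : 3240 ≤ (common D a y).ncard := by
    rw [himg, Set.ncard_image_of_injective _ (fun p q e => mul_left_cancel (mul_right_cancel e))]
    omega
  exact ⟨le_antisymm hb hge, hcov hge⟩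

/-- every two members that do not commute have a common neighbour -/
theorem Data24.far_nonempty [Finite G] (h : Data24 D) (h24 : Cfsg.IsOfTypeM24 G D) {a y : G}
    (ha : a ∈ D) (hy : y ∈ D) (hn : ¬ Commute a y) : ∃ z, z ∈ common D a y := by
  have key : ∀ t, Relation.ReflTransGen (Adj D) a t → Commute a t ∨ ∃ b, b ∈ common D a t := by
    intro t ht
    induction ht with
    | refl => exact Or.inl (Commute.refl a)
    | @tail u v _ huv ih =>
      by_cases hav : Commute a v
      · exact Or.inl hav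
      right
      by_cases hau : Commute a u
      · exact ⟨u, ⟨huv.1, fun e => hav (e ▸ huv.2.2.2), hau⟩, nb_symm huv.1 huv.2⟩
      obtain ⟨b, hb'⟩ := ih.resolve_left hau
      rcases (h.common_all h24 ha huv.1 hau hb').2 v huv.2 with q | ⟨z, hz, hvz⟩
      · exact absurd q.1.2.2 hav
      · exact ⟨z, hz.1, nb_symm hz.1.1 hvz⟩
  exact (key y (h.conn a ha y hy)).resolve_left hn

end Cfsg.Agent.H61.M24
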