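import Cfsg.Agent.H61.M24.Common

/-!
Groups of type M(24): the centraliser of a member is generated by the members commuting with it.
Over a far member `y` the chosen coset is that of `a * y`.
-/

set_option autoImplicit false

namespace Cfsg.Agent.H61.M24

open Cfsg.Agent.H93

variable {G : Type*} [Group G] {D : Set G}

/-- the coset chosen over a member -/
def Good (D : Set G) (a y g : G) : Prop :=
  (y = a ∧ g ∈ nbSub D a) ∨ (y ∈ nb D a ∧ ∃ s, CStep D (nbSub D) a y s ∧ s⁻¹ * g ∈ nbSub D a) ∨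
    (¬ Commute a y ∧ (a * y)⁻¹ * g ∈ nbSub D a)

theorem step_end' {x y g : G} (h : CStep D (nbSub D) x y g) : g * x * g⁻¹ = y :=
  h.choose_spec.2.2

namespace Data24

variable (h : Data24 D) [Finite G]

include h

theorem pull {x g : G} (hx : x ∈ D) {k : G} (hk : k ∈ nbSub D (g * x * g⁻¹)) :
    g⁻¹ * k * g ∈ nbSub D x := by
  have hle : nbSub D (g * x * g⁻¹) ≤ (nbSub D x).comap (MulAut.conj g⁻¹).toMonoidHom := by
    rw [Subgroup.closure_le]
    intro w hw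
    have := h.core.tt.nb_conj g⁻¹ hw
    rw [show g⁻¹ * (g * x * g⁻¹) * g⁻¹⁻¹ = x by group] at this
    exact Subgroup.subset_closure this
  have := hle hk
  simpa using this

theorem edge_nb {x y : G} (hx : x ∈ D) (hy : y ∈ nb D x) : ∃ z, z ∈ nb D x ∩ nb D y := by
  obtain ⟨e, he⟩ := (h.res x hx).1.core.edge _ (rimg_mem hy)
  obtain ⟨z, hz, -⟩ := h.core.rimg_nb_surj hx hy he
  exact ⟨z, hz⟩

theorem tri_nb {x y w : G} (hx : x ∈ D) (hy : y ∈ nb D x) (hw : w ∈ nb D x ∩ nb D y) :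
    ∃ z, z ∈ nb D x ∧ z ∈ nb D y ∧ z ∈ nb D w := by
  obtain ⟨K, iK, iKF, h22⟩ := (h.res x hx).1.res _ (rimg_mem hy)
  have hwy := h.core.rimg_nb hx hy hw
  obtain ⟨e, he⟩ := h22.core.edge _ (rimg_mem hwy)
  obtain ⟨u, hu, -⟩ := (h.res x hx).1.core.rimg_nb_surj (rimg_mem hy) hwy he
  obtain ⟨z, hz, rfl⟩ := h.core.rimg_nb_surj hx hy hu.1
  refine ⟨z, hz.1, hz.2, hz.1.1, fun q => hu.2.2.1 (by rw [q]), ?_⟩
  exact (h.core.rimg_comm hw.1 hz.1).mp hu.2.2.2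

theorem mid_nb {x y z z' : G} (hx : x ∈ D) (hy : y ∈ nb D x) (hz : z ∈ nb D x ∩ nb D y)
    (hz' : z' ∈ nb D x ∩ nb D y) :
    ∃ w ∈ nb D x ∩ nb D y, Commute w z ∧ Commute w z' := by
  by_cases hc : Commute z z'
  · exact ⟨z, hz, Commute.refl z, hc⟩
  have hM := (h.res x hx).1
  obtain ⟨K, iK, iKF, h22⟩ := hM.res _ (rimg_mem hy)
  have e1 := h.core.rimg_nb hx hy hz
  have e2 := h.core.rimg_nb hx hy hz'
  obtain ⟨u, hu⟩ := h22.far _ (rimg_mem e1) _ (rimg_mem e2) (fun q =>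
    hc ((h.core.rimg_comm hz.1 hz'.1).mp ((hM.core.rimg_comm e1 e2).mp q)))
  obtain ⟨v, hv, -⟩ := hM.res_common_surj (rimg_mem hy) e1 e2 hu
  obtain ⟨w, hw, rfl⟩ := h.core.rimg_nb_surj hx hy hv.2
  exact ⟨w, hw, ((h.core.rimg_comm hz.1 hw.1).mp hv.1.1.2.2).symm,
    ((h.core.rimg_comm hz'.1 hw.1).mp hv.1.2.2.2).symm⟩

theorem sep_two {x y z z' : G} (hx : x ∈ D) (hy : y ∈ nb D x) (hz : z ∈ nb D x ∩ nb D y)
    (hz' : z' ∈ nb D x ∩ nb D y) (hc : Commute z z') :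
    ∃ w ∈ nb D z, (z' = z ∨ w ∈ nb D z') ∧ ¬ Commute w x ∧ ¬ Commute w y := by
  have hxz := nb_symm hx hz.1
  have hyz := nb_symm hy.1 hz.2
  have hne : rimg D z x ≠ rimg D z y := fun q =>
    hy.2.1 ((h.core.rimg_inj hz.1.1 hxz hyz).mp q).symm
  have hxy := (h.core.rimg_comm hxz hyz).mpr hy.2.2
  by_cases e : z' = z
  · obtain ⟨w, hw, n1, n2⟩ := h.sep z hz.1.1 x hxz y hyz hy.2.1.symm hy.2.2
    exact ⟨w, hw, Or.inl e, n1, n2⟩
  have hz'z : z' ∈ nb D z := ⟨hz'.1.1, e, hc⟩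
  obtain ⟨w', hw', n1, n2⟩ := (h.res z hz.1.1).2.sep _ (rimg_mem hz'z) _
    (h.core.rimg_nb hz.1.1 hz'z ⟨hxz, nb_symm hx hz'.1⟩) _
    (h.core.rimg_nb hz.1.1 hz'z ⟨hyz, nb_symm hy.1 hz'.2⟩) hne hxy
  obtain ⟨w, hw, rfl⟩ := h.core.rimg_nb_surj hz.1.1 hz'z hw'
  exact ⟨w, hw.1, Or.inr hw.2, fun q => n1 ((h.core.rimg_comm hw.1 hxz).mpr q),
    fun q => n2 ((h.core.rimg_comm hw.1 hyz).mpr q)⟩

theorem step_of_pair {x y z z' : G} (hx : x ∈ D) (hy : y ∈ nb D x) (hz : z ∈ nb D x ∩ nb D y)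
    (hz' : z' ∈ nb D x ∩ nb D y) (hc : Commute z z') :
    ∃ k, k ∈ nbSub D z ∧ k ∈ nbSub D z' ∧ k * x * k⁻¹ = y := by
  have htt := h.core.tt
  obtain ⟨w, hw, hw', nx, ny⟩ := h.sep_two hx hy hz hz' hc
  have hxz : x ∈ nb D z := nb_symm hx hz.1
  have hyz : y ∈ nb D z := nb_symm hy.1 hz.2
  have mem : ∀ {v u : G}, u ∈ nb D v → u ∈ nbSub D v := fun q => Subgroup.subset_closure q
  refine ⟨w * y * (x * w), mul_mem (mul_mem (mem hw) (mem hyz)) (mul_mem (mem hxz) (mem hw)), ?_, ?_⟩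
  · rcases hw' with rfl | hw'
    · exact mul_mem (mul_mem (mem hw) (mem hyz)) (mul_mem (mem hxz) (mem hw))
    · exact mul_mem (mul_mem (mem hw') (mem (nb_symm hy.1 hz'.2)))
        (mul_mem (mem (nb_symm hx hz'.1)) (mem hw'))
  · have bx := htt.braid hw.1 hx nx
    have by' := htt.braid hw.1 hy.1 ny
    have xx := htt.sq x hx
    have ww := htt.sq w hw.1
    rw [mul_inv_rev, mul_inv_rev, mul_inv_rev, htt.inv_eq hx, htt.inv_eq hw.1, htt.inv_eq hy.1]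
    have e1 : x * w * x * (w * x) = w := by
      rw [← bx]
      calc w * x * w * (w * x) = w * x * (w * w) * x := by group
        _ = w := by rw [ww, mul_one, mul_assoc, xx, mul_one]
    calc w * y * (x * w) * x * (w * x * (y * w)) = w * y * (x * w * x * (w * x)) * (y * w) := by group
      _ = w * (y * w * y) * w := by rw [e1]; group
      _ = w * (w * y * w) * w := by rw [by']
      _ = (w * w) * y * (w * w) := by group
      _ = y := by rw [ww, one_mul, mul_one]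

/-- two elements of the group at `u` moving `x` to the same member -/
theorem close {x y u g k : G} (hx : x ∈ D) (hu : u ∈ nb D x) (hgu : g ∈ nbSub D u)
    (hku : k ∈ nbSub D u) (e : g * x * g⁻¹ = y) (e' : k * x * k⁻¹ = y) : g⁻¹ * k ∈ nbSub D x := by
  refine h.stab hx hu (mul_mem (inv_mem hgu) hku) ?_
  show g⁻¹ * k * x = x * (g⁻¹ * k)
  calc g⁻¹ * k * x = g⁻¹ * (k * x * k⁻¹) * k := by group
    _ = g⁻¹ * (g * x * g⁻¹) * k := by rw [e, e']
    _ = _ := by group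

theorem step_mem {x y g g' : G} (hx : x ∈ D) (hy : y ∈ nb D x) (hg : CStep D (nbSub D) x y g)
    (hg' : CStep D (nbSub D) x y g') : g⁻¹ * g' ∈ nbSub D x := by
  obtain ⟨z, hz, hgz, eg⟩ := hg
  obtain ⟨z', hz', hgz', eg'⟩ := hg'
  obtain ⟨w, hw, hwz, hwz'⟩ := h.mid_nb hx hy hz hz'
  obtain ⟨k1, k1z, k1w, e1⟩ := h.step_of_pair hx hy hz hw hwz.symm
  obtain ⟨k2, k2w, k2z, e2⟩ := h.step_of_pair hx hy hw hz' hwz'
  have h1 := h.close hx hz.1 hgz k1z eg e1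
  have h2 := h.close hx hw.1 k1w k2w e1 e2
  have h3 := h.close hx hz'.1 k2z hgz' e2 eg'
  have := mul_mem (mul_mem h1 h2) h3
  rwa [show g⁻¹ * k1 * (k1⁻¹ * k2) * (k2⁻¹ * g') = g⁻¹ * g' by group] at this

theorem step_at {x y z : G} (hx : x ∈ D) (hy : y ∈ nb D x) (hz : z ∈ nb D x ∩ nb D y) :
    ∃ g, g ∈ nbSub D z ∧ CStep D (nbSub D) x y g := by
  obtain ⟨k, kz, -, e⟩ := h.step_of_pair hx hy hz hz (Commute.refl z)
  exact ⟨k, kz, z, hz, kz, e⟩

theorem step_exists {x y : G} (hx : x ∈ D) (hy : y ∈ nb D x) : ∃ g, CStep D (nbSub D) x y g := by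
  obtain ⟨z, hz⟩ := h.edge_nb hx hy
  obtain ⟨k, -, hk⟩ := h.step_at hx hy hz
  exact ⟨k, hk⟩

theorem step_comp' {x y w g g' : G} (hx : x ∈ D) (hy : y ∈ nb D x)
    (hw : w ∈ nb D x ∩ nb D y) (h1 : CStep D (nbSub D) x y g) (h2 : CStep D (nbSub D) y w g') :
    ∃ g'', CStep D (nbSub D) x w g'' ∧ g''⁻¹ * (g' * g) ∈ nbSub D x := by
  obtain ⟨z, zx, zy, zw⟩ := h.tri_nb hx hy hw
  obtain ⟨k1, k1z, -, e1⟩ := h.step_of_pair hx hy ⟨zx, zy⟩ ⟨zx, zy⟩ (Commute.refl z)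
  obtain ⟨k2, k2z, -, e2⟩ := h.step_of_pair hy.1 hw.2 ⟨zy, zw⟩ ⟨zy, zw⟩ (Commute.refl z)
  have m1 : k1⁻¹ * g ∈ nbSub D x := h.step_mem hx hy ⟨z, ⟨zx, zy⟩, k1z, e1⟩ h1
  have m2 : k2⁻¹ * g' ∈ nbSub D y := h.step_mem hy.1 hw.2 ⟨z, ⟨zy, zw⟩, k2z, e2⟩ h2
  have e3 : k2 * k1 * x * (k2 * k1)⁻¹ = w := by
    rw [← e2, ← e1]; group
  have m2' : k1⁻¹ * (k2⁻¹ * g') * k1 ∈ nbSub D x := h.pull hx (e1.symm ▸ m2)
  refine ⟨k2 * k1, ⟨z, ⟨zx, zw⟩, mul_mem k2z k1z, e3⟩, ?_⟩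
  have := mul_mem m2' m1
  rwa [show k1⁻¹ * (k2⁻¹ * g') * k1 * (k1⁻¹ * g) = (k2 * k1)⁻¹ * (g' * g) by group] at this

omit [Finite G] in
theorem prod_conj {a y : G} (ha : a ∈ D) (hy : y ∈ D) (hn : ¬ Commute a y) :
    a * y * a * (a * y)⁻¹ = y := by
  have htt := h.core.tt
  rw [mul_inv_rev, htt.inv_eq ha, htt.inv_eq hy]
  calc a * y * a * (y * a) = a * (y * a * y) * a := by group
    _ = a * (a * y * a) * a := by rw [htt.braid ha hy hn]
    _ = (a * a) * y * (a * a) := by group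
    _ = y := by rw [htt.sq a ha, one_mul, mul_one]

/-- two steps through a common neighbour agree with the product -/
theorem two_step {a y b s t : G} (ha : a ∈ D) (hy : y ∈ D) (hn : ¬ Commute a y)
    (hb : b ∈ common D a y) (hs : CStep D (nbSub D) a b s) (ht : CStep D (nbSub D) b y t) :
    (a * y)⁻¹ * (t * s) ∈ nbSub D a := by
  have bD := hb.1.1
  have ab := nb_symm ha hb.1
  have yb := nb_symm hy hb.2
  have hM := (h.res b bD).1
  obtain ⟨e, he⟩ := hM.far _ (rimg_mem ab) _ (rimg_mem yb)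
    (fun q => hn ((h.core.rimg_comm ab yb).mp q))
  obtain ⟨z, hz, rfl⟩ := rimg_surj he.1.1
  have hza : z ∈ nb D a :=
    ⟨hz.1, fun q => he.1.2.1 (by rw [q]), (h.core.rimg_comm ab hz).mp he.1.2.2⟩
  have hzy : z ∈ nb D y :=
    ⟨hz.1, fun q => he.2.2.1 (by rw [q]), (h.core.rimg_comm yb hz).mp he.2.2.2⟩
  obtain ⟨k1, k1z, hk1⟩ := h.step_at ha hb.1 ⟨hza, hz⟩
  obtain ⟨k2, k2z, hk2⟩ := h.step_at bD yb ⟨hz, hzy⟩
  have hay : a * y ∈ nbSub D z := mul_mem (Subgroup.subset_closure (nb_symm ha hza))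
    (Subgroup.subset_closure (nb_symm hy hzy))
  have m0 : (a * y)⁻¹ * (k2 * k1) ∈ nbSub D a := h.close ha hza hay (mul_mem k2z k1z)
    (h.prod_conj ha hy hn) (by
      rw [← step_end' hk2, ← step_end' hk1]; group)
  have m1 := h.step_mem ha hb.1 hk1 hs
  have m2 := h.pull ha (g := k1) ((step_end' hk1).symm ▸ h.step_mem bD yb hk2 ht)
  have := mul_mem (mul_mem m0 m2) m1
  rwa [show (a * y)⁻¹ * (k2 * k1) * (k1⁻¹ * (k2⁻¹ * t) * k1) * (k1⁻¹ * s) = (a * y)⁻¹ * (t * s) by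
    group] at this

omit [Finite G] in
theorem good_mul {a y g k : G} (hg : Good D a y g) (hk : k ∈ nbSub D a) : Good D a y (g * k) := by
  rcases hg with ⟨e, hg⟩ | ⟨hy, s, hs, hg⟩ | ⟨hn, hg⟩
  · exact Or.inl ⟨e, mul_mem hg hk⟩
  · exact Or.inr (Or.inl ⟨hy, s, hs, by rw [← mul_assoc]; exact mul_mem hg hk⟩)
  · exact Or.inr (Or.inr ⟨hn, by rw [← mul_assoc]; exact mul_mem hg hk⟩)

omit [Finite G] in
theorem good_of {a y p g : G} (hp : Good D a y p) (hg : p⁻¹ * g ∈ nbSub D a) : Good D a y g := by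
  have := h.good_mul hp hg
  rwa [mul_inv_cancel_left] at this

theorem good_step (h24 : Cfsg.IsOfTypeM24 G D) {a y y' g u : G} (ha : a ∈ D) (hy : y ∈ D)
    (hy' : y' ∈ nb D y) (hg : Good D a y g) (hu : CStep D (nbSub D) y y' u) :
    Good D a y' (u * g) := by
  have hyy : y ∈ nb D y' := nb_symm hy hy'
  rcases hg with ⟨rfl, hg⟩ | ⟨hya, s, hs, hg⟩ | ⟨hn, hg⟩
  · exact Or.inr (Or.inl ⟨hy', u, hu, by rw [inv_mul_cancel_left]; exact hg⟩)
  · by_cases e : y' = a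
    · subst e
      refine Or.inl ⟨rfl, ?_⟩
      have m := h.step_mem hy hy' (CoverData.step_symm hs) hu
      have m' := h.pull ha (g := s) ((step_end' hs).symm ▸ m)
      have := mul_mem m' hg
      rwa [show s⁻¹ * (s⁻¹⁻¹ * u) * s * (s⁻¹ * g) = u * g by group] at this
    by_cases hc : Commute a y'
    · obtain ⟨s', hs', m⟩ := h.step_comp' ha hya ⟨⟨hy'.1, e, hc⟩, hy'⟩ hs hu
      refine Or.inr (Or.inl ⟨⟨hy'.1, e, hc⟩, s', hs', ?_⟩)
      have := mul_mem m hg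
      rwa [show s'⁻¹ * (u * s) * (s⁻¹ * g) = s'⁻¹ * (u * g) by group] at this
    · refine Or.inr (Or.inr ⟨hc, ?_⟩)
      have m := h.two_step ha hy'.1 hc ⟨hya, hyy⟩ hs hu
      have := mul_mem m hg
      rwa [show (a * y')⁻¹ * (u * s) * (s⁻¹ * g) = (a * y')⁻¹ * (u * g) by group] at this
  · by_cases hc : Commute a y'
    · have hne : y' ≠ a := fun e => hn (e ▸ hy'.2.2.symm)
      have hy'S : y' ∈ common D a y := ⟨⟨hy'.1, hne, hc⟩, hy'⟩
      obtain ⟨s', hs'⟩ := h.step_exists ha hy'S.1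
      have m1 := h.two_step ha hy hn hy'S hs' (CoverData.step_symm hu)
      refine Or.inr (Or.inl ⟨hy'S.1, s', hs', ?_⟩)
      have := mul_mem (inv_mem m1) hg
      rwa [show ((a * y)⁻¹ * (u⁻¹ * s'))⁻¹ * ((a * y)⁻¹ * g) = s'⁻¹ * (u * g) by group] at this
    · obtain ⟨z0, hz0⟩ := h.far_nonempty h24 ha hy hn
      rcases (h.common_all h24 ha hy hn hz0).2 y' hy' with q | ⟨z, hz, hy'z⟩
      · exact absurd q.1.2.2 hc
      have hzy' : z ∈ nb D y' := nb_symm hz.1.1 hy'z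
      obtain ⟨u0, u0z, hu0⟩ := h.step_at hy hy' ⟨hz.2, hzy'⟩
      have az := nb_symm ha hz.1
      have hay : a * y ∈ nbSub D z := mul_mem (Subgroup.subset_closure az)
        (Subgroup.subset_closure (nb_symm hy hz.2))
      have hay' : a * y' ∈ nbSub D z := mul_mem (Subgroup.subset_closure az)
        (Subgroup.subset_closure hy'z)
      have m0 : (a * y')⁻¹ * (u0 * (a * y)) ∈ nbSub D a := h.close ha hz.1 hay' (mul_mem u0z hay)
        (h.prod_conj ha hy'.1 hc) (by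
          calc u0 * (a * y) * a * (u0 * (a * y))⁻¹ = u0 * (a * y * a * (a * y)⁻¹) * u0⁻¹ := by group
            _ = y' := by rw [h.prod_conj ha hy hn, step_end' hu0])
      have m1 := h.pull ha (g := a * y) ((h.prod_conj ha hy hn).symm ▸ h.step_mem hy hy' hu0 hu)
      refine Or.inr (Or.inr ⟨hc, ?_⟩)
      have := mul_mem (mul_mem m0 m1) hg
      rwa [show (a * y')⁻¹ * (u0 * (a * y)) * ((a * y)⁻¹ * (u0⁻¹ * u) * (a * y)) *
        ((a * y)⁻¹ * g) = (a * y')⁻¹ * (u * g) by group] at this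

theorem good_left (h24 : Cfsg.IsOfTypeM24 G D) {a g t : G} (ha : a ∈ D) (ht : t ∈ D)
    (hg : Good D a (g * a * g⁻¹) g) : Good D a (t * g * a * (t * g)⁻¹) (t * g) := by
  have htt := h.core.tt
  set y := g * a * g⁻¹ with hy
  have yD : y ∈ D := htt.conj_mem g a ha
  have ey : t * g * a * (t * g)⁻¹ = t * y * t⁻¹ := by rw [hy]; group
  rw [ey]
  by_cases hc : Commute t y
  · rw [hc.eq, mul_inv_cancel_right]
    have tH : t ∈ nbSub D y := by
      by_cases e : t = y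
      · rw [e]; exact h.self_mem yD
      · exact Subgroup.subset_closure ⟨ht, e, hc.symm⟩
    have := h.good_mul hg (h.pull ha (g := g) tH)
    rwa [show g * (g⁻¹ * t * g) = t * g by group] at this
  · obtain ⟨z, hzy, hzt⟩ := h.far_nonempty h24 yD ht (fun q => hc q.symm)
    obtain ⟨k, hk⟩ := h.step_exists yD hzy
    have g1 := h.good_step h24 ha yD hzy hg hk
    have tz : t * z * t⁻¹ = z := mul_inv_eq_iff_eq_mul.mpr hzt.2.2.eq
    have hv : CStep D (nbSub D) z (t * y * t⁻¹) (t * k⁻¹ * t⁻¹) := by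
      obtain ⟨w, hw, hkw, ek⟩ := hk
      refine ⟨t * w * t⁻¹, ⟨?_, htt.nb_conj t hw.1⟩, ?_, ?_⟩
      · have := htt.nb_conj t hw.2
        rwa [tz] at this
      · have hle : nbSub D w ≤ (nbSub D (t * w * t⁻¹)).comap (MulAut.conj t).toMonoidHom := by
          rw [Subgroup.closure_le]
          exact fun v hv => Subgroup.subset_closure (htt.nb_conj t hv)
        exact hle (inv_mem hkw)
      · calc t * k⁻¹ * t⁻¹ * z * (t * k⁻¹ * t⁻¹)⁻¹
            = t * k⁻¹ * t⁻¹ * (t * z * t⁻¹) * (t * k⁻¹ * t⁻¹)⁻¹ := by rw [tz]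
          _ = t * (k⁻¹ * (k * y * k⁻¹) * k) * t⁻¹ := by rw [ek]; group
          _ = _ := by group
    have hz' : t * y * t⁻¹ ∈ nb D z := by
      have := htt.nb_conj t (nb_symm yD hzy)
      rwa [tz] at this
    refine h.good_of (h.good_step h24 ha hzy.1 hz' g1 hv) ?_
    have hkg : (k * g) * a * (k * g)⁻¹ = z := by
      rw [← step_end' hk, hy]; group
    have := h.pull ha (g := k * g) (k := t)
      (hkg.symm ▸ Subgroup.subset_closure (nb_symm ht hzt))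
    rwa [show (t * k⁻¹ * t⁻¹ * (k * g))⁻¹ * (t * g) = (k * g)⁻¹ * t * (k * g) by group]

/-- the centraliser of a member -/
theorem cent (h24 : Cfsg.IsOfTypeM24 G D) {a : G} (ha : a ∈ D) :
    Subgroup.centralizer ({a} : Set G) = nbSub D a := by
  refine le_antisymm (fun g hg => ?_) fun g hg => mem_cent (nbSub_commute hg)
  have key : ∀ g : G, Good D a (g * a * g⁻¹) g := by
    intro g
    have hg : g ∈ Subgroup.closure D := h.gen ▸ Subgroup.mem_top g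
    induction hg using Subgroup.closure_induction_left with
    | one => exact Or.inl ⟨by group, one_mem _⟩
    | mul_left t ht w _ ih => exact h.good_left h24 ha ht ih
    | inv_mul_cancel t ht w _ ih =>
      rw [h.core.tt.inv_eq ht]
      exact h.good_left h24 ha ht ih
  have hk := key g
  rw [(Subgroup.mem_centralizer_singleton_iff.mp hg), mul_inv_cancel_right] at hk
  rcases hk with ⟨-, q⟩ | ⟨q, -⟩ | ⟨q, -⟩
  · exact q
  · exact absurd rfl q.2.1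
  · exact absurd (Commute.refl a) q

end Data24

end Cfsg.Agent.H61.M24
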