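import Cfsg.Agent.H93.Far23

/-!
Automorphisms induced on residues; in a group of type M(23) an automorphism fixing the closed
neighbourhood of a member is trivial or is that member.
-/

set_option autoImplicit false

namespace Cfsg.Agent.H61.M24

open Cfsg.Agent.H93

variable {G : Type*} [Group G] {D : Set G}

/-- an automorphism preserving the class and fixing `b` acts on the residue at `b` -/
theorem exists_induced [Finite G] {φ : MulAut G} (hmem : ∀ x ∈ D, φ x ∈ D) {b : G}
    (hb : φ b = b) :
    ∃ ψ : MulAut (Residue D b), ∀ {y}, y ∈ nb D b →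
      φ y ∈ nb D b ∧ ψ (rimg D b y) = rimg D b (φ y) := by
  have hnb : ∀ {y}, y ∈ nb D b → φ y ∈ nb D b := fun {y} hy =>
    ⟨hmem y hy.1, fun e => hy.2.1 (φ.injective (e.trans hb.symm)),
      hb ▸ hy.2.2.map φ.toMonoidHom⟩
  have himg : φ '' nb D b = nb D b := by
    refine Set.eq_of_subset_of_ncard_le ?_ ?_ (Set.toFinite _)
    · rintro _ ⟨y, hy, rfl⟩; exact hnb hy
    · rw [Set.ncard_image_of_injective _ φ.injective]
  have hmap : (nbSub D b).map φ.toMonoidHom = nbSub D b := by
    rw [MonoidHom.map_closure]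
    exact congrArg Subgroup.closure himg
  let e0 : ↥(nbSub D b) ≃* ↥(nbSub D b) :=
    (φ.subgroupMap (nbSub D b)).trans (MulEquiv.subgroupCongr hmap)
  have hcen : (Subgroup.center ↥(nbSub D b)).map e0.toMonoidHom = Subgroup.center ↥(nbSub D b) := by
    ext z
    rw [Subgroup.mem_map_equiv]
    constructor
    · intro hz
      rw [Subgroup.mem_center_iff] at hz ⊢
      intro w
      apply e0.symm.injective
      rw [map_mul, map_mul]
      exact hz _
    · intro hz
      rw [Subgroup.mem_center_iff] at hz ⊢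
      intro w
      apply e0.injective
      simp only [map_mul, MulEquiv.apply_symm_apply]
      exact hz _
  refine ⟨QuotientGroup.congr _ _ e0 hcen, fun {y} hy => ⟨hnb hy, ?_⟩⟩
  rw [rimg_eq hy, rimg_eq (hnb hy)]
  exact congrArg QuotientGroup.mk (Subtype.ext rfl)

/-- conjugation by an involution of the class, in the residue -/
theorem rimg_sandwich (hD : TT D) {b a v : G} (hb : b ∈ D) (ha : a ∈ nb D b) (hv : v ∈ nb D b) :
    a * v * a ∈ nb D b ∧ rimg D b (a * v * a) = rimg D b a * rimg D b v * rimg D b a := by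
  have hm : a * v * a ∈ nb D b := by
    have := hD.nbSub_conj_nb hb (Subgroup.subset_closure ha) hv
    rwa [hD.inv_eq ha.1] at this
  refine ⟨hm, ?_⟩
  rw [rimg_eq hm, rimg_eq ha, rimg_eq hv, ← QuotientGroup.mk_mul, ← QuotientGroup.mk_mul]
  exact congrArg QuotientGroup.mk (Subtype.ext rfl)

/-- an automorphism preserving a class of type M(23) and fixing a closed neighbourhood -/
theorem M23Data.kernel_aut [Finite G] (h : M23Data D) (φ : MulAut G) (hmem : ∀ x ∈ D, φ x ∈ D)
    {a : G} (ha : a ∈ D) (hga : φ a = a) (hg : ∀ v ∈ nb D a, φ v = v) :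
    (∀ t ∈ D, φ t = t) ∨ ∀ t ∈ D, φ t = a * t * a := by
  have htt := h.core.tt
  obtain ⟨b, hb'⟩ := h.core.edge a ha
  obtain ⟨F, iF, iFF, hM, -⟩ := h.res b hb'.1
  obtain ⟨ψ, hψ⟩ := exists_induced hmem (hg b hb')
  have hab : a ∈ nb D b := nb_symm ha hb'
  have near : ∀ {y}, y ∈ nb D b → Commute a y → φ y = y := fun {y} hy hc => by
    by_cases e : y = a
    · exact e ▸ hga
    · exact hg y ⟨hy.1, e, hc⟩
  have hfix := hM.kernel_aut ψ (fun x hx => by
      obtain ⟨y, hy, rfl⟩ := rimg_surj hx
      exact (hψ hy).2 ▸ rimg_mem (hψ hy).1) (rimg_mem hab)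
    (by rw [(hψ hab).2, hga])
    (fun v hv => by
      obtain ⟨y, hy, rfl⟩ := h.core.rimg_nb_surj hb'.1 hab hv
      rw [(hψ hy.1).2, near hy.1 hy.2.2.2])
  rcases hfix with q | q
  · left
    refine fix_of_two h.core h.conn h.sep ha hb' hga hg fun v hv => ?_
    have := q _ (rimg_mem hv)
    rwa [(hψ hv).2, h.core.rimg_inj hb'.1 (hψ hv).1 hv] at this
  · right
    have e0 : ∀ t, a * (a * t * a) * a = t := fun t => by
      rw [show a * (a * t * a) * a = a * a * t * (a * a) by group, htt.sq a ha, one_mul, mul_one]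
    have eχ : ∀ x, (φ.trans (MulAut.conj a)) x = a * φ x * a := fun x => by
      show a * φ x * a⁻¹ = _
      rw [htt.inv_eq ha]
    have hall := fix_of_two h.core h.conn h.sep (φ := φ.trans (MulAut.conj a)) ha hb'
      (by rw [eχ, hga, htt.sq a ha, one_mul])
      (fun v hv => by rw [eχ, hg v hv, hv.2.2.eq, mul_assoc, htt.sq a ha, mul_one])
      (fun v hv => by
        obtain ⟨hm, em⟩ := rimg_sandwich htt hb'.1 hab hv
        have := q _ (rimg_mem hv)
        rw [(hψ hv).2, ← em, h.core.rimg_inj hb'.1 (hψ hv).1 hm] at this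
        rw [eχ, this, e0])
    intro t ht
    have := hall t ht
    rw [eχ] at this
    calc φ t = a * (a * φ t * a) * a := (e0 _).symm
      _ = _ := by rw [this]

end Cfsg.Agent.H61.M24
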