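import Cfsg.Agent.H61.M24.Count
import Cfsg.Agent.H93.Over23

/-!
Groups of type M(24): subgroups of odd order centralising a member, read in the residue.
-/

set_option autoImplicit false

namespace Cfsg.Agent.H61.M24

open Cfsg.Agent.H93

namespace Geo24

/-- the member itself lies in its neighbour subgroup -/
theorem self {G : Type*} [Group G] {D : Set G} [Finite G] (h : Geo24 D) (a : G) (ha : a ∈ D) :
    a ∈ nbSub D a := h.data.self_mem ha

/-- only two central elements -/
theorem two {G : Type*} [Group G] {D : Set G} [Finite G] (h : Geo24 D) (a : G) (ha : a ∈ D)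
    (k : ↥(nbSub D a)) (hk : k ∈ Subgroup.center ↥(nbSub D a)) : (k : G) = 1 ∨ (k : G) = a :=
  (h.center_iff ha k).mp hk

end Geo24

namespace Geo24

variable {G : Type*} [Group G] {D : Set G} (h : Geo24 D) [Finite G] {d : G} (hd : d ∈ D)
  {X : Subgroup G} (hX : X ≤ Subgroup.centralizer ({d} : Set G)) (hodd : Odd (Nat.card X))

include h hd hX hodd

/-- elements of the subgroup are determined by their images -/
theorem over_inj {p q : ↥(nbSub D d)} (hp : (p : G) ^ Nat.card X = 1) (hq : (q : G) ^ Nat.card X = 1)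
    (e : (QuotientGroup.mk p : Residue D d) = QuotientGroup.mk q) : p = q := by
  have hc : p⁻¹ * q ∈ Subgroup.center ↥(nbSub D d) := QuotientGroup.eq.mp e
  rcases h.two d hd _ hc with e1 | e1
  · exact inv_mul_eq_one.mp (Subtype.ext e1)
  exfalso
  have cpd : Commute (p : G) d := (nbSub_commute p.2).symm
  have e2 : (q : G) = p * d := (inv_mul_eq_iff_eq_mul (a := (p : G)) (b := (q : G)) (c := d)).mp e1
  rw [e2, cpd.mul_pow, hp, one_mul] at hq
  obtain ⟨m, hm⟩ := hodd
  rw [hm, pow_succ, pow_mul, pow_two, h.data.core.tt.sq d hd, one_pow, one_mul] at hq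
  exact h.data.core.ne_one d hd hq

omit hodd in
theorem over_le : X ≤ nbSub D d := h.cent d hd ▸ hX

omit hodd in
theorem over_pow {x : ↥(nbSub D d)} (hx : (x : G) ∈ X) : (x : G) ^ Nat.card X = 1 :=
  congrArg Subtype.val (pow_card_eq_one' (G := ↥X) (x := ⟨x.1, hx⟩))

/-- the image has the same order -/
theorem over_card : Nat.card ↥(resImage D d X) = Nat.card X := by
  rw [← Nat.card_congr (Subgroup.subgroupOfEquivOfLe (h.over_le hd hX)).toEquiv]
  refine (Nat.card_eq_of_bijective
    (fun x : ↥(X.subgroupOf (nbSub D d)) =>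
      (⟨QuotientGroup.mk x.1, x.1, x.2, rfl⟩ : ↥(resImage D d X))) ⟨fun x y e => ?_, ?_⟩).symm
  · exact Subtype.ext (h.over_inj hd hX hodd (h.over_pow hd hX x.2) (h.over_pow hd hX y.2)
      (congrArg Subtype.val e))
  · rintro ⟨_, x, hx, rfl⟩
    exact ⟨⟨x, hx⟩, rfl⟩

/-- fixed neighbours -/
theorem over_fixed {e : G} (he : e ∈ nb D d) :
    (∀ x ∈ X, Commute x e) ↔ rimg D d e ∈ Subgroup.centralizer (resImage D d X : Set (Residue D d)) := by
  constructor
  · intro hc
    refine Subgroup.mem_centralizer_iff.mpr ?_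
    rintro _ ⟨x, hx, rfl⟩
    rw [rimg_eq he]
    exact congrArg QuotientGroup.mk (Subtype.ext (hc x.1 hx).eq : x * nbElem he = nbElem he * x)
  · intro hc x hx
    obtain ⟨hm, e'⟩ := Geo23.rimg_conj h.data.core.tt hd (h.over_le hd hX hx) he
    refine mul_inv_eq_iff_eq_mul.mp ((h.data.core.rimg_inj hd hm he).mp ?_)
    have hcom : (QuotientGroup.mk (⟨x, h.over_le hd hX hx⟩ : ↥(nbSub D d)) : Residue D d) * rimg D d e =
        rimg D d e * QuotientGroup.mk (⟨x, h.over_le hd hX hx⟩ : ↥(nbSub D d)) :=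
      Subgroup.mem_centralizer_iff.mp hc _ ⟨⟨x, h.over_le hd hX hx⟩, hx, rfl⟩
    rw [e', hcom, mul_inv_cancel_right]

omit hX hodd in
/-- preimages double -/
theorem over_preimage (R : Subgroup (Residue D d)) (T : Subgroup G) (hT : T ≤ nbSub D d)
    (hiff : ∀ k : ↥(nbSub D d), (k : G) ∈ T ↔ (QuotientGroup.mk k : Residue D d) ∈ R) :
    Nat.card ↥T = 2 * Nat.card ↥R := by
  classical
  let f : ↥T →* Residue D d := (QuotientGroup.mk' _).comp (Subgroup.inclusion hT)
  have hrange : f.range = R := by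
    ext γ
    constructor
    · rintro ⟨k, rfl⟩; exact (hiff _).mp k.2
    · intro hγ
      obtain ⟨k, rfl⟩ := QuotientGroup.mk_surjective γ
      exact ⟨⟨k, (hiff k).mpr hγ⟩, rfl⟩
  have hdc : (⟨d, h.self d hd⟩ : ↥(nbSub D d)) ∈ Subgroup.center ↥(nbSub D d) :=
    Subgroup.mem_center_iff.mpr fun w => Subtype.ext (nbSub_commute w.2).symm.eq
  have hdT : d ∈ T := (hiff ⟨d, h.self d hd⟩).mpr (by
    rw [(QuotientGroup.eq_one_iff _).mpr hdc]; exact one_mem _)
  have hker : Nat.card ↥f.ker = 2 := by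
    rw [← Subgroup.card_map_of_injective (f := T.subtype) Subtype.val_injective,
      show f.ker.map T.subtype = Subgroup.zpowers d from ?_, Nat.card_zpowers,
      orderOf_eq_prime (by rw [pow_two]; exact h.data.core.tt.sq d hd) (h.data.core.ne_one d hd)]
    refine le_antisymm ?_ (Subgroup.zpowers_le.mpr ⟨⟨d, hdT⟩, (QuotientGroup.eq_one_iff _).mpr hdc, rfl⟩)
    rintro _ ⟨g, hg, rfl⟩
    rcases h.two d hd (Subgroup.inclusion hT g) ((QuotientGroup.eq_one_iff _).mp hg) with e | e
    · rw [show T.subtype g = 1 from e]; exact one_mem _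
    · rw [show T.subtype g = d from e]; exact Subgroup.mem_zpowers d
  rw [← Subgroup.card_mul_index f.ker, Subgroup.index_ker, hrange, hker]

/-- the centraliser -/
theorem over_centralizer :
    Nat.card ↥(Subgroup.centralizer (X : Set G) ⊓ Subgroup.centralizer ({d} : Set G)) =
      2 * Nat.card ↥(Subgroup.centralizer (resImage D d X : Set (Residue D d))) := by
  refine h.over_preimage hd _ _ (inf_le_right.trans (h.cent d hd).le) fun k => ⟨fun hk => ?_, fun hk => ?_⟩
  · refine Subgroup.mem_centralizer_iff.mpr ?_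
    rintro _ ⟨x, hx, rfl⟩
    exact congrArg QuotientGroup.mk (Subtype.ext (Subgroup.mem_centralizer_iff.mp hk.1 x.1 hx) :
      x * k = k * x)
  · refine ⟨Subgroup.mem_centralizer_iff.mpr fun x hx => ?_, by rw [h.cent d hd]; exact k.2⟩
    set x' : ↥(nbSub D d) := ⟨x, h.over_le hd hX hx⟩
    have hpow := h.over_pow hd hX (x := x') hx
    have := h.over_inj hd hX hodd (p := k * x' * k⁻¹) (q := x') (by
        rw [Subgroup.coe_mul, Subgroup.coe_mul, Subgroup.coe_inv, conj_pow, hpow, mul_one, mul_inv_cancel])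
      hpow (by
        rw [QuotientGroup.mk_mul, QuotientGroup.mk_mul, QuotientGroup.mk_inv,
          ← Subgroup.mem_centralizer_iff.mp hk (QuotientGroup.mk x') ⟨x', hx, rfl⟩, mul_inv_cancel_right])
    exact (congrArg Subtype.val (mul_inv_eq_iff_eq_mul.mp this)).symm

/-- the normaliser -/
theorem over_normalizer :
    Nat.card ↥(Subgroup.normalizer (X : Set G) ⊓ Subgroup.centralizer ({d} : Set G)) =
      2 * Nat.card ↥(Subgroup.normalizer (resImage D d X : Set (Residue D d))) := by
  classical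
  refine h.over_preimage hd _ _ (inf_le_right.trans (h.cent d hd).le) fun k => ⟨fun hk => ?_, fun hk => ?_⟩
  · refine Subgroup.mem_normalizer_iff.mpr fun γ => ?_
    constructor
    · rintro ⟨x, hx, rfl⟩
      exact ⟨k * x * k⁻¹, (Subgroup.mem_normalizer_iff.mp hk.1 _).mp hx, by simp⟩
    · rintro ⟨x, hx, e⟩
      refine ⟨k⁻¹ * x * k, ?_, ?_⟩
      · have := (Subgroup.mem_normalizer_iff.mp (inv_mem hk.1) _).mp hx
        rw [inv_inv] at this
        exact this
      · rw [map_mul, map_mul, map_inv, e]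
        simp only [QuotientGroup.mk'_apply]
        group
  · refine ⟨?_, by rw [h.cent d hd]; exact k.2⟩
    have hsub : ∀ x ∈ X, (k : G) * x * (k : G)⁻¹ ∈ X := by
      intro x hx
      set x' : ↥(nbSub D d) := ⟨x, h.over_le hd hX hx⟩
      obtain ⟨y, hy, e⟩ := (Subgroup.mem_normalizer_iff.mp hk (QuotientGroup.mk x')).mp ⟨x', hx, rfl⟩
      have := h.over_inj hd hX hodd (p := k * x' * k⁻¹) (q := y) (by
          rw [Subgroup.coe_mul, Subgroup.coe_mul, Subgroup.coe_inv, conj_pow, h.over_pow hd hX (x := x') hx,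
            mul_one, mul_inv_cancel])
        (h.over_pow hd hX hy) (by rw [QuotientGroup.mk_mul, QuotientGroup.mk_mul, QuotientGroup.mk_inv]; exact e.symm)
      rw [show (k : G) * x * (k : G)⁻¹ = (y : G) from congrArg Subtype.val this]
      exact hy
    have heq : X.map (MulAut.conj (k : G)).toMonoidHom = X :=
      Subgroup.eq_of_le_of_card_ge (Subgroup.map_le_iff_le_comap.mpr fun x hx => hsub x hx)
        (by rw [Subgroup.card_map_of_injective (MulAut.conj (k : G)).injective])
    refine Subgroup.mem_normalizer_iff.mpr fun x => ⟨hsub x, fun hx => ?_⟩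
    have hx' : (k : G) * x * (k : G)⁻¹ ∈ X.map (MulAut.conj (k : G)).toMonoidHom := by
      rw [heq]; exact hx
    obtain ⟨y, hy, e⟩ := hx'
    have : y = x := mul_left_cancel (mul_right_cancel e)
    exact this ▸ hy

end Geo24

end Cfsg.Agent.H61.M24
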